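import Mathlib.Tactic.Linarith
import Mathlib.Tactic.Ring
import Mathlib.Tactic.LinearCombination
import Mathlib.Data.Int.ModEq
import Mathlib.RingTheory.Coprime.Lemmas
import Mathlib.Algebra.Order.Ring.Int

/-!
# The arithmetic in the theorem of Brauer and Reynolds
-/

set_option autoImplicit false

namespace CfsgLib.BrauerRey

/-- Degrees congruent to one. -/
theorem degree_plus {p e t n f v : ℕ} (hp : e * t + 1 = p) (he : 2 ≤ e) (ht : 1 ≤ t)
    (hn : 2 * n < p + 3) (hf1 : 1 < f) (hf : f % p = 1) (hv : f * v = e * (1 + n * p)) :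
    f = 1 + n * p := by
  have h2e : 2 * 1 ≤ e * t := Nat.mul_le_mul he ht
  have hep : e < p := by
    have := Nat.mul_le_mul_left e ht
    omega
  have hvm : v % p = e := by
    have h := congrArg (· % p) hv
    simp only [Nat.mul_mod f v, hf, one_mul, Nat.mod_mod, mul_add, mul_one] at h
    rw [h, ← mul_assoc, Nat.add_mul_mod_self_right, Nat.mod_eq_of_lt hep]
  obtain ⟨u, hfu⟩ : ∃ u, f = u * p + 1 :=
    ⟨f / p, by have := Nat.div_add_mod' f p; rw [hf] at this; exact this.symm⟩
  obtain ⟨w, hvw⟩ : ∃ w, v = w * p + e :=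
    ⟨v / p, by have := Nat.div_add_mod' v p; rw [hvm] at this; exact this.symm⟩
  have hkey : u * e + w + u * w * p = e * n := by
    refine Nat.eq_of_mul_eq_mul_left (show 0 < p by omega) (Nat.add_left_cancel (n := e) ?_)
    rw [hfu, hvw] at hv
    calc e + p * (u * e + w + u * w * p) = (u * p + 1) * (w * p + e) := by ring
      _ = e + p * (e * n) := by rw [hv]; ring
  rcases Nat.eq_zero_or_pos w with hw0 | hw0
  · subst hw0
    have : u = n := Nat.eq_of_mul_eq_mul_left (show 0 < e by omega) (by
      rw [← hkey]; ring)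
    rw [hfu, this, add_comm]
  exfalso
  have hu0 : 1 ≤ u := by
    rcases Nat.eq_zero_or_pos u with h | h
    · rw [h] at hfu; omega
    · exact h
  have hen : e * n = e * (u + u * w * t) + w * (u + 1) := by
    rw [← hkey, ← hp]; ring
  have hle : u + u * w * t ≤ n :=
    Nat.le_of_mul_le_mul_left (hen ▸ Nat.le_add_right _ _) (by omega)
  obtain ⟨K, rfl⟩ := Nat.exists_eq_add_of_le hle
  have hK : e * K = w * (u + 1) := by
    rw [mul_add] at hen
    omega
  have hK1 : 1 ≤ K := by
    rcases Nat.eq_zero_or_pos K with h | h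
    · rw [h, mul_zero] at hK
      exact absurd hK.symm (Nat.mul_pos hw0 (by omega)).ne'
    · exact h
  have h1 : e * t ≤ 2 * (u * w * t) := by
    calc e * t ≤ e * K * t := Nat.mul_le_mul_right _ (Nat.le_mul_of_pos_right _ hK1)
      _ ≤ w * (2 * u) * t := Nat.mul_le_mul_right _ (hK ▸ Nat.mul_le_mul_left _ (by omega))
      _ = 2 * (u * w * t) := by ring
  omega

/-- Degrees congruent to minus one. -/
theorem degree_minus {p e t n f v : ℕ} (hp : e * t + 1 = p) (he : 2 ≤ e) (ht : 1 ≤ t)
    (hn : 2 * n < p + 3) (hf : (f + 1) % p = 0) (hv : f * v = e * (1 + n * p)) (hlt : f < p * v) :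
    f + 1 = p ∧ ∃ w, n + 1 = w * t := by
  have h2e : 2 * 1 ≤ e * t := Nat.mul_le_mul he ht
  obtain ⟨u, hu⟩ := Nat.dvd_of_mod_eq_zero hf
  have hu0 : 1 ≤ u := by
    rcases Nat.eq_zero_or_pos u with h | h
    · rw [h, mul_zero] at hu; omega
    · exact h
  obtain ⟨w, hw⟩ : p ∣ v + e := by
    have h3 : p * (u * v) = (v + e) + p * (e * n) := by
      calc p * (u * v) = (f + 1) * v := by rw [hu]; ring
        _ = _ := by rw [add_mul, hv]; ring
    exact (Nat.dvd_add_left ⟨e * n, rfl⟩).1 ⟨u * v, h3.symm⟩
  have hkey : u * w * p = e * n + u * e + w := by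
    refine Nat.eq_of_mul_eq_mul_left (show 0 < p by omega) ?_
    calc p * (u * w * p) = p * u * (p * w) := by ring
      _ = (f + 1) * (v + e) := by rw [hu, hw]
      _ = f * v + (f + 1) * e + v := by ring
      _ = e * (1 + n * p) + p * u * e + v := by rw [hv, hu]
      _ = p * (e * n + u * e) + (v + e) := by ring
      _ = _ := by rw [hw]; ring
  obtain ⟨u', rfl⟩ : ∃ u', u = u' + 1 := ⟨u - 1, by omega⟩
  have hen : e * (n + (u' + 1)) = e * ((u' + 1) * w * t) + w * u' := by
    rw [← hp] at hkey
    nlinarith only [hkey]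
  have hle : (u' + 1) * w * t ≤ n + (u' + 1) :=
    Nat.le_of_mul_le_mul_left (hen ▸ Nat.le_add_right _ _) (by omega)
  obtain ⟨K, hnK⟩ := Nat.exists_eq_add_of_le hle
  have hK : e * K = w * u' := by
    rw [hnK, mul_add] at hen
    omega
  rcases Nat.eq_zero_or_pos u' with rfl | hu'
  · have : K = 0 := by
      rw [mul_zero, mul_eq_zero] at hK
      omega
    subst this
    exact ⟨by simpa using hu, w, by simpa using hnK⟩
  exfalso
  have hw0 : 1 ≤ w := by
    rcases Nat.eq_zero_or_pos w with h | h
    · rw [h] at hw; omega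
    · exact h
  have hK1 : 1 ≤ K := by
    rcases Nat.eq_zero_or_pos K with h | h
    · rw [h, mul_zero] at hK
      exact absurd hK.symm (Nat.mul_pos hw0 hu').ne'
    · exact h
  have heK : e ≤ w * u' := hK ▸ Nat.le_mul_of_pos_right _ hK1
  have hule : u' + 1 + e ≤ p * w := by
    have h4 : p * (u' + 1) ≤ p * v := by omega
    have := Nat.le_of_mul_le_mul_left h4 (by omega)
    omega
  rcases Nat.lt_or_eq_of_le ht with ht2 | ht1
  · have h1 : (e + 1) * t ≤ (u' + 1) * w * t :=
      Nat.mul_le_mul_right _ (by rw [add_mul, one_mul, mul_comm u' w]; omega)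
    have h2 : (u' + 1) * 1 * 2 ≤ (u' + 1) * w * t :=
      Nat.mul_le_mul (Nat.mul_le_mul_left _ hw0) ht2
    rw [add_mul, one_mul] at h1
    omega
  · subst ht1
    rw [mul_one] at hp hnK h2e
    rcases Nat.lt_or_eq_of_le hw0 with hw2 | hw1
    · have h1 : e + 2 ≤ (u' + 1) * w := by
        rw [add_mul, one_mul, mul_comm u' w]; omega
      have h2 : (u' + 1) * 2 ≤ (u' + 1) * w := Nat.mul_le_mul_left _ hw2
      omega
    · subst hw1
      rw [one_mul] at heK
      omega

/-- The exceptional degree. -/
theorem degree_exc {p e t n w v f c δ : ℤ} (hp : e * t + 1 = p) (he : 2 ≤ e) (ht : 2 ≤ t)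
    (hw : 1 ≤ w) (hnw : n + 1 = w * t) (hn : 2 * n < p + 3) (hv : v + e = w * p)
    (hf0 : 0 < f) (hδ : δ = 1 ∨ δ = -1) (hf : p ∣ f - δ * e) (hc : f * c = e * v)
    (hep : IsCoprime e p) :
    (δ = 1 ∧ f = e) ∨ (δ = -1 ∧ f = v) := by
  obtain ⟨i, hi⟩ := hf
  have hpe : 2 * e < p := by nlinarith
  have hv0 : 0 < v := by nlinarith
  have hc0 : 0 < c := by
    by_contra hcon
    nlinarith [mul_pos (show (0:ℤ) < e by omega) hv0]
  -- the congruence of the cofactor
  obtain ⟨j, hj⟩ : p ∣ c + δ * e := by
    have hd : p ∣ δ * e * (c + δ * e) := by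
      refine ⟨e * w - i * c, ?_⟩
      have hsq : δ * δ = 1 := by rcases hδ with h | h <;> subst h <;> rfl
      linear_combination hc + e * hv - c * hi + e * e * hsq
    refine (IsCoprime.dvd_of_dvd_mul_left ?_ hd)
    rcases hδ with h | h <;> subst h
    · simpa using hep.symm
    · simpa using hep.symm.neg_right
  have h2n : 2 * (w * t) ≤ p + 4 := by omega
  rcases hδ with h | h <;> subst h
  · have hi0 : 0 ≤ i := by
      by_contra hcon
      nlinarith
    have hj1 : 1 ≤ j := by
      by_contra hcon
      nlinarith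
    rcases eq_or_lt_of_le hi0 with h0 | h0
    · exact Or.inl ⟨rfl, by rw [← h0] at hi; linarith⟩
    exfalso
    have hmain : i * j * p = e * (w - j + i) := by
      refine mul_left_cancel₀ (show p ≠ 0 by omega) ?_
      linear_combination hc + e * hv - c * hi - (e + p * i) * hj
    have hfv : f ≤ v := by
      have : e ≤ c := by nlinarith
      nlinarith
    have hiw : i < w := by nlinarith
    obtain ⟨m, hm⟩ : p ∣ w - j + i :=
      IsCoprime.dvd_of_dvd_mul_left hep.symm ⟨i * j, by linear_combination -hmain⟩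
    have hm1 : 1 ≤ m := by
      have : 0 < w - j + i := by
        by_contra hcon
        nlinarith [mul_pos (mul_pos h0 (show (0:ℤ) < j by omega)) (show (0:ℤ) < p by omega)]
      by_contra hcon
      nlinarith
    nlinarith
  · have hi1 : 1 ≤ i := by
      by_contra hcon
      nlinarith
    have hj0 : 0 ≤ j := by
      by_contra hcon
      nlinarith
    have hmain : i * j * p = e * (w + j - i) := by
      refine mul_left_cancel₀ (show p ≠ 0 by omega) ?_
      linear_combination hc + e * hv - c * hi - (-e + p * i) * hj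
    rcases eq_or_lt_of_le hj0 with h0 | h0
    · refine Or.inr ⟨rfl, ?_⟩
      subst h0
      have : c = e := by linarith
      subst this
      nlinarith
    exfalso
    obtain ⟨m, hm⟩ : p ∣ w + j - i :=
      IsCoprime.dvd_of_dvd_mul_left hep.symm ⟨i * j, by linear_combination -hmain⟩
    have hij : i * j = e * m := by
      refine mul_left_cancel₀ (show p ≠ 0 by omega) ?_
      linear_combination hmain + e * hm
    have hm1 : 1 ≤ m := by
      by_contra hcon
      nlinarith
    have hjw : (p - e) * j < e * w := by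
      have h5 : (p - e) * (j * p) < e * w * p := by
        have h6 : p - e ≤ f := by nlinarith
        have h7 : j * p < c := by nlinarith
        nlinarith
      nlinarith
    nlinarith

end CfsgLib.BrauerRey
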