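import Cfsg.Agent.Lib.BrauerRey.Setup
import Cfsg.Agent.Lib.Char.DefectZero
import Cfsg.Agent.Lib.CharTools.Basic

/-!
# The principal block at `p`
-/

set_option autoImplicit false

namespace CfsgLib.BrauerRey

open Cfsg CfsgLib.DefectOne
open scoped ComplexConjugate Classical

universe u

variable {G : Type u} [Group G] [Finite G] {p : ℕ} [Fact p.Prime] {z : G}

/-- The degree as an integer. -/
noncomputable def deg (χ : IrrCharacter G) : ℕ := charDegree (χ : G → ℂ)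

theorem deg_cast (χ : IrrCharacter G) : (deg χ : ℂ) = (χ : G → ℂ) 1 :=
  CharTools.irr_degree_cast χ

theorem deg_pos (χ : IrrCharacter G) : 0 < deg χ := CharTools.irr_degree_pos χ

theorem deg_dvd (χ : IrrCharacter G) : deg χ ∣ Nat.card G := CharTools.degree_dvd_card χ

theorem sum_deg_sq : ∑ χ : IrrCharacter G, (deg χ) ^ 2 = Nat.card G := CharTools.sum_degree_sq'

/-- A character of full `r`-part degree vanishes at `r`-singular elements. -/
theorem vanish {r m : ℕ} (hr : r.Prime) (h1 : r ^ m ∣ Nat.card G)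
    (h2 : ¬ r ^ (m + 1) ∣ Nat.card G) {χ : IrrCharacter G} (hd : r ^ m ∣ deg χ) {g : G}
    (hg : r ∣ orderOf g) : (χ : G → ℂ) g = 0 := by
  obtain ⟨N, ρ, hρ, hχρ⟩ := χ.2
  haveI := hρ
  rw [← hχρ]
  refine CfsgLib.Char.character_eq_zero_of_defect_zero ρ hr h1 h2 ?_ g hg
  have : (deg χ : ℂ) = (N : ℂ) := by
    rw [deg_cast, ← hχρ, Representation.char_one, Module.finrank_fin_fun]
  rw [Module.finrank_fin_fun]
  rwa [← Nat.cast_injective this]

theorem eq_principal_of_deg_eq_one (hperf : commutator G = ⊤) {χ : IrrCharacter G}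
    (h1 : deg χ = 1) : χ = CfsgLib.Char.principalIrr := by
  obtain ⟨f, hf⟩ := CfsgLib.Char.IsCharacter.exists_linear (Char.IsIrrCharacter.isCharacter χ.2)
    (show (χ : G → ℂ) 1 = 1 by rw [← deg_cast, h1, Nat.cast_one])
  refine Subtype.ext (funext fun g => ?_)
  rw [hf g, hom_eq_one hperf f g, Units.val_one]
  rfl

/-- The shape of the characters with values at the `p`-singular elements. -/
structure Blk (p : ℕ) [Fact p.Prime] (z : G) (e t : ℕ) (X Y : Finset (IrrCharacter G))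
    (σ : IrrCharacter G → ℤ) (δ : ℤ) (f₀ : ℕ) : Prop where
  disj : Disjoint X Y
  card_X : X.card = e
  card_Y : Y.card = t
  sign : ∀ χ ∈ X, σ χ = 1 ∨ σ χ = -1
  δ_sign : δ = 1 ∨ δ = -1
  val_X : ∀ χ ∈ X, ∀ i, ¬ p ∣ i → (χ : G → ℂ) (z ^ i) = σ χ
  mod_X : ∀ χ ∈ X, (deg χ : ℤ) ≡ σ χ [ZMOD p]
  deg_Y : ∀ θ ∈ Y, deg θ = f₀
  mod_Y : (f₀ : ℤ) ≡ δ * e [ZMOD p]
  eq_Y : ∀ θ ∈ Y, ∀ θ' ∈ Y, ∀ g, ¬ p ∣ orderOf g → (θ : G → ℂ) g = (θ' : G → ℂ) g
  rel : ∀ θ ∈ Y, ∀ g, ¬ p ∣ orderOf g →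
    (δ : ℂ) * (θ : G → ℂ) g = ∑ χ ∈ X, (σ χ : ℂ) * (χ : G → ℂ) g
  not_dvd : ∀ χ ∈ X ∪ Y, ¬ p ∣ deg χ
  mem : ∀ χ, ¬ p ∣ deg χ → χ ∈ X ∪ Y
  principal : CfsgLib.Char.principalIrr ∈ X ∪ Y
  principal_X : 2 ≤ t → CfsgLib.Char.principalIrr ∈ X
  sum_Y : ∀ i, ¬ p ∣ i → ∑ θ ∈ Y, (θ : G → ℂ) (z ^ i) = -(δ : ℂ)
  sum_pow : ∀ θ ∈ Y, ∑ r : (ZMod p)ˣ, (θ : G → ℂ) (z ^ (r : ZMod p).val) = -((δ * e : ℤ) : ℂ)
  perm : ∀ θ ∈ Y, ∀ θ' ∈ Y, ∃ k : (ZMod p)ˣ, ∀ r : (ZMod p)ˣ,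
    (θ' : G → ℂ) (z ^ (r : ZMod p).val) = (θ : G → ℂ) (z ^ ((r * k : (ZMod p)ˣ) : ZMod p).val)

theorem Num.val_singular {y : G} {e t n : ℕ} (h : Num p z y e t n) (χ : IrrCharacter G)
    (r : ZMod p) :
    (χ : G → ℂ) (z ^ r.val) = sec p z (CfsgLib.Char.principalIrr) χ r := by
  have hH := h.ctx.hyp
  haveI : Subsingleton (regPart p z) := by
    rw [h.ctx.regPart_eq_bot]; infer_instance
  have hps : ∀ ψ : IrrCharacter (regPart p z), ψ = CfsgLib.Char.principalIrr := fun ψ => by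
    refine eq_principal_of_deg_eq_one ?_ ?_
    · exact Subsingleton.elim _ _
    · have h1 := sum_deg_sq (G := regPart p z)
      rw [Nat.card_of_subsingleton (1 : regPart p z)] at h1
      have h2 : deg ψ ^ 2 ≤ ∑ χ : IrrCharacter (regPart p z), deg χ ^ 2 :=
        Finset.single_le_sum (f := fun χ => deg χ ^ 2) (fun _ _ => Nat.zero_le _)
          (Finset.mem_univ ψ)
      have h3 := deg_pos ψ
      nlinarith
  have h1 := hH.apply_pow_mul χ r.val 1
  rw [Subgroup.coe_one, mul_one, Finset.sum_eq_single CfsgLib.Char.principalIrr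
    (fun ψ _ hne => absurd (hps ψ) hne) (fun hn => absurd (Finset.mem_univ _) hn),
    hH.secCoef_eq_sec, ZMod.natCast_zmod_val] at h1
  rw [h1, CfsgLib.Char.principalIrr_apply, mul_one]

theorem Num.exists_blk {y : G} {e t n : ℕ} (h : Num p z y e t n) :
    ∃ (X Y : Finset (IrrCharacter G)) (σ : IrrCharacter G → ℤ) (δ : ℤ) (f₀ : ℕ),
      Blk p z e t X Y σ δ f₀ := by
  have hH := h.ctx.hyp
  have hp := h.ctx.prime
  set φ : IrrCharacter (regPart p z) := CfsgLib.Char.principalIrr with hφ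
  obtain ⟨Y, δ, m, sh⟩ := hH.exists_shape φ
  have he : Nat.card (hH.expGroup φ) = e := by rw [hφ, hH.card_expGroup_principal, h.rel]
  have hi : (hH.expGroup φ).index = t := by
    rw [hH.index_expGroup_eq, he]
    have := h.het
    rw [show p - 1 = e * t by omega, Nat.mul_div_cancel_left _ (by have := h.he; omega)]
  have hval : ∀ χ ∈ hH.bset φ \ Y, ∀ i, ¬ p ∣ i → (χ : G → ℂ) (z ^ i) = -(m χ : ℂ) := by
    intro χ hχ i hi
    have h1 := HypOne.Shape.principal_singular hH sh hχ hi 1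
    rwa [Subgroup.coe_one, mul_one] at h1
  have hYne : Y.Nonempty := Finset.card_pos.1 (by rw [sh.card_Y, hi]; exact h.ht)
  obtain ⟨θ₀, hθ₀⟩ := hYne
  have heq : ∀ θ ∈ Y, ∀ θ' ∈ Y, ∀ g, ¬ p ∣ orderOf g → (θ : G → ℂ) g = (θ' : G → ℂ) g :=
    fun θ hθ θ' hθ' g hg => HypOne.Shape.eq_on_regular hH sh hθ hθ' hg
  have h1r : ¬ p ∣ orderOf (1 : G) := by
    rw [orderOf_one]; exact hp.not_dvd_one
  have hdY : ∀ θ ∈ Y, deg θ = deg θ₀ := fun θ hθ => Nat.cast_injective (R := ℂ) (by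
    rw [deg_cast, deg_cast]; exact heq θ hθ θ₀ hθ₀ 1 h1r)
  have hrel : ∀ θ ∈ Y, ∀ g, ¬ p ∣ orderOf g →
      (δ : ℂ) * (θ : G → ℂ) g = ∑ χ ∈ hH.bset φ \ Y, ((-m χ : ℤ) : ℂ) * (χ : G → ℂ) g := by
    intro θ hθ g hg
    have h1 := HypOne.Shape.relation hH sh hθ hg
    simp only [Int.cast_neg, neg_mul, Finset.sum_neg_distrib]
    linear_combination h1
  have hmem : ∀ χ : IrrCharacter G, χ ∈ hH.bset φ \ Y ∪ Y ↔ χ ∈ hH.bset φ := fun χ => by
    rw [Finset.sdiff_union_of_subset sh.subset]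
  have hbset : ∀ χ : IrrCharacter G, ¬ p ∣ deg χ → χ ∈ hH.bset φ := by
    intro χ hχ
    obtain ⟨ψ, hψ⟩ := hH.exists_bset_of_not_dvd hχ
    haveI : Subsingleton (regPart p z) := by rw [h.ctx.regPart_eq_bot]; infer_instance
    have : ψ = φ := by
      refine eq_principal_of_deg_eq_one (Subsingleton.elim _ _) ?_
      have h1 := sum_deg_sq (G := regPart p z)
      rw [Nat.card_of_subsingleton (1 : regPart p z)] at h1
      have h2 : deg ψ ^ 2 ≤ ∑ χ : IrrCharacter (regPart p z), deg χ ^ 2 :=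
        Finset.single_le_sum (f := fun χ => deg χ ^ 2) (fun _ _ => Nat.zero_le _)
          (Finset.mem_univ ψ)
      have h3 := deg_pos ψ
      nlinarith
    exact this ▸ hψ
  refine ⟨hH.bset φ \ Y, Y, fun χ => -m χ, δ, deg θ₀, ?_⟩
  refine ⟨Finset.sdiff_disjoint, by rw [sh.card_X, he], by rw [sh.card_Y, hi], ?_, sh.δ_sign,
    fun χ hχ i hi => by rw [hval χ hχ i hi, Int.cast_neg],
    fun χ hχ => HypOne.Shape.principal_degree_X hH sh hχ, hdY, ?_, heq, hrel,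
    fun χ hχ => hH.not_dvd_of_mem_bset ((hmem χ).1 hχ), fun χ hχ => (hmem χ).2 (hbset χ hχ),
    (hmem _).2 hH.principalIrr_mem_bset, ?_, ?_, ?_, ?_⟩
  · intro χ hχ
    rcases sh.m_sign χ hχ with e1 | e1 <;> simp [e1]
  · have h1 := HypOne.Shape.principal_degree_Y hH sh hθ₀
    rwa [h.rel] at h1
  · intro ht2
    refine Finset.mem_sdiff.2 ⟨hH.principalIrr_mem_bset, fun hY => ?_⟩
    have hall : ∀ θ ∈ Y, θ = CfsgLib.Char.principalIrr := by
      intro θ hθ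
      refine eq_principal_of_deg_eq_one h.ctx.perfect ?_
      rw [hdY θ hθ, ← hdY _ hY]
      exact CharTools.charDegree_principal
    have : Y.card ≤ 1 := Finset.card_le_one.2 fun a ha b hb => (hall a ha).trans (hall b hb).symm
    rw [sh.card_Y, hi] at this
    omega
  · intro i hip
    -- column orthogonality against the identity
    have hne : ¬ IsConj (z ^ i) 1 := fun hc => by
      rw [isConj_one_left] at hc
      exact hip (hH.pow_eq_one_iff.1 hc)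
    have h0 := CfsgLib.Char.sum_mul_conj (z ^ i) (1 : G)
    rw [if_neg hne] at h0
    rw [← Finset.sum_subset (Finset.subset_univ (hH.bset φ \ Y ∪ Y))] at h0
    swap
    · intro χ _ hχ
      have hd : p ∣ deg χ := by
        by_contra hd
        exact hχ ((hmem χ).2 (hbset χ hd))
      rw [vanish hp (m := 1) (by rw [pow_one, h.card_eq]; exact dvd_mul_right p _) h.ctx.not_sq
        (by rwa [pow_one]) (by rw [hH.orderOf_pow hip]), zero_mul]
    rw [Finset.sum_union Finset.sdiff_disjoint] at h0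
    have hX : ∑ χ ∈ hH.bset φ \ Y, (χ : G → ℂ) (z ^ i) * conj ((χ : G → ℂ) 1) =
        (δ : ℂ) * (θ₀ : G → ℂ) 1 := by
      rw [hrel θ₀ hθ₀ 1 h1r]
      exact Finset.sum_congr rfl fun χ hχ => by
        rw [hval χ hχ i hip, ← deg_cast, map_natCast, Int.cast_neg]
    have hY : ∑ χ ∈ Y, (χ : G → ℂ) (z ^ i) * conj ((χ : G → ℂ) 1) =
        (∑ χ ∈ Y, (χ : G → ℂ) (z ^ i)) * (θ₀ : G → ℂ) 1 := by
      rw [Finset.sum_mul]
      exact Finset.sum_congr rfl fun χ hχ => by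
        rw [← deg_cast χ, ← deg_cast θ₀, map_natCast, hdY χ hχ]
    rw [hX, hY, ← add_mul, mul_eq_zero] at h0
    exact eq_neg_of_add_eq_zero_right
      (h0.resolve_right (CharTools.irr_apply_one_ne_zero θ₀))
  · intro θ hθ
    simp only [h.val_singular]
    rw [hH.sum_sec_eq, sh.sum_Y θ hθ, he, mul_comm]
  · intro θ hθ θ' hθ'
    obtain ⟨u, rfl⟩ := (sh.orbit θ hθ θ').1 hθ'
    obtain ⟨k, hk⟩ := hH.exists_unit_of_exponent u
    refine ⟨k, fun r => ?_⟩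
    rw [h.val_singular, h.val_singular, hH.sec_smul, hk, Units.val_mul]

/-- The column orthogonality at `z`. -/
theorem Blk.column {y : G} {e t n : ℕ} (h : Num p z y e t n) {X Y : Finset (IrrCharacter G)}
    {σ : IrrCharacter G → ℤ} {δ : ℤ} {f₀ : ℕ} (B : Blk p z e t X Y σ δ f₀)
    {i : ℕ} (hi : ¬ p ∣ i) (F : IrrCharacter G → ℂ) :
    ∑ χ : IrrCharacter G, (χ : G → ℂ) (z ^ i) * F χ =
      (∑ χ ∈ X, (σ χ : ℂ) * F χ) + ∑ θ ∈ Y, (θ : G → ℂ) (z ^ i) * F θ := by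
  rw [← Finset.sum_subset (Finset.subset_univ (X ∪ Y)), Finset.sum_union B.disj]
  · congr 1
    exact Finset.sum_congr rfl fun χ hχ => by rw [B.val_X χ hχ i hi]
  · intro χ _ hχ
    have hd : p ∣ deg χ := by
      by_contra hd
      exact hχ (B.mem χ hd)
    rw [vanish h.ctx.prime (m := 1) (by rw [pow_one, h.card_eq]; exact dvd_mul_right p _)
      h.ctx.not_sq (by rwa [pow_one]) (by rw [h.ctx.hyp.orderOf_pow hi]), zero_mul]

end CfsgLib.BrauerRey
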