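import Cfsg.Agent.Lib.BrauerRey.Count

/-!
# Bounding the two parameters
-/

set_option autoImplicit false

namespace CfsgLib.BrauerRey

open Cfsg CfsgLib.DefectOne
open scoped ComplexConjugate Classical

universe u

variable {G : Type u} [Group G] [Finite G] {p : ℕ} [Fact p.Prime] {z y : G} {e t n : ℕ}
  {X Y : Finset (IrrCharacter G)} {σ : IrrCharacter G → ℤ} {δ : ℤ} {f₀ : ℕ}
  {w v : ℕ} {Xp Xm : Finset (IrrCharacter G)}

namespace Neg

variable (N : Neg p z y e t n X Y σ δ f₀ w v Xp Xm)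

include N

theorem fix_minus_one {χ : IrrCharacter G} {c : ℕ} {s : ℂ}
    (hd : deg χ = c) (hs : ∑ r : (ZMod p)ˣ, (χ : G → ℂ) (z ^ (r : ZMod p).val) = s) {m : ℕ}
    (hm : (c : ℂ) + s = p * m) {L : Subgroup.zpowers y → ℂ}
    (hL1 : (p : ℂ) * L 1 = (χ : G → ℂ) 1 + ∑ r : (ZMod p)ˣ, (χ : G → ℂ) (z ^ (r : ZMod p).val)) :
    L 1 = m := by
  rw [← deg_cast, hd, hs, hm] at hL1
  exact mul_left_cancel₀ (Nat.cast_ne_zero.2 N.num.ctx.prime.ne_zero) hL1

/-- The sums over the complement of the values and of their squares. -/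
theorem sums_y (hw : w = 1) (hnt : n + 1 = t) {θ : IrrCharacter G} (hθ : θ ∈ Y)
    [Fintype (Subgroup.zpowers y)] :
    ∃ (mX : IrrCharacter G → ℕ) (mθ : ℕ), (∀ χ ∈ Xp, mX χ ≤ t) ∧ mθ ≤ 1 ∧
      (∀ χ ∈ Xp, ∑ q ∈ (Finset.univ : Finset (Subgroup.zpowers y)).erase 1,
        (χ : G → ℂ) (q : G) = -(t : ℂ)) ∧
      (∑ q ∈ (Finset.univ : Finset (Subgroup.zpowers y)).erase 1,
        (θ : G → ℂ) (q : G) = -1) ∧
      (∀ χ ∈ Xp, ∑ q ∈ (Finset.univ : Finset (Subgroup.zpowers y)).erase 1,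
        (χ : G → ℂ) (q : G) * conj ((χ : G → ℂ) (q : G)) + (t : ℂ) * t = (e : ℂ) * mX χ) ∧
      (∑ q ∈ (Finset.univ : Finset (Subgroup.zpowers y)).erase 1,
        (θ : G → ℂ) (q : G) * conj ((θ : G → ℂ) (q : G)) + 1 = (e : ℂ) * mθ) := by
  have D := N.degs
  have hp := N.num.ctx.prime
  have he := N.num.he
  choose L hL hLq hL1 using N.num.exists_fix
  have hcard : Nat.card (Subgroup.zpowers y) = e := by rw [Nat.card_zpowers, N.num.orderOf_y]
  have he0 : (e : ℂ) ≠ 0 := Nat.cast_ne_zero.2 (by omega)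
  have hval : ∀ r : (ZMod p)ˣ, ¬ p ∣ (r : ZMod p).val := fun r hdv =>
    r.ne_zero ((ZMod.val_eq_zero _).1 (Nat.eq_zero_of_dvd_of_lt hdv (ZMod.val_lt _)))
  have hp' : (e : ℂ) * t + 1 = p := by exact_mod_cast N.num.het
  have hX1 : ∀ χ ∈ Xp, L χ 1 = (t : ℂ) := by
    intro χ hχ
    have hχX : χ ∈ X := D.X_eq ▸ Finset.mem_insert_of_mem (Finset.mem_union_left _ hχ)
    refine N.fix_minus_one (D.plus χ hχ).2 (s := (e : ℂ) * t) ?_ ?_ (hL1 χ)
    · rw [Finset.sum_congr rfl (g := fun _ => (1 : ℂ)) (fun r _ => by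
        rw [D.blk.val_X χ hχX _ (hval r), (D.plus χ hχ).1, Int.cast_one]),
        Finset.sum_const, Finset.card_univ, ZMod.card_units, nsmul_eq_mul, mul_one,
        show p - 1 = e * t by have := N.num.het; omega, Nat.cast_mul]
    · have hnt' : (n : ℂ) + 1 = t := by exact_mod_cast hnt
      push_cast
      linear_combination (p : ℂ) * hnt' + hp'
  have hθ1 : L θ 1 = 1 := by
    have h1 := N.fix_minus_one (m := 1) (D.blk.deg_Y θ hθ) (D.blk.sum_pow θ hθ) ?_ (hL1 θ)
    · rw [h1, Nat.cast_one]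
    · have hv : (v : ℂ) + e = p := by
        have := D.hv
        rw [hw, one_mul] at this
        exact_mod_cast this
      rw [N.hδ, N.hf]
      push_cast
      linear_combination hv
  set one : Subgroup.zpowers y → ℂ :=
    ((CfsgLib.Char.principalIrr : IrrCharacter (Subgroup.zpowers y)) : Subgroup.zpowers y → ℂ)
  have hone : IsCharacter _ one :=
    CfsgLib.Char.IsIrrCharacter.isCharacter CfsgLib.Char.principalIrr.2
  have h11 : ∀ q, one q = 1 := fun q => CfsgLib.Char.principalIrr_apply q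
  -- the regular character
  have hR : one + ∑ χ ∈ Xp, L χ + L θ = fun q => if q = 1 then (e : ℂ) else 0 := by
    funext q
    simp only [Pi.add_apply, Finset.sum_apply, h11]
    split
    · subst q
      rw [Finset.sum_congr rfl hX1, Finset.sum_const, nsmul_eq_mul, hθ1]
      have h2 : (w : ℂ) * (1 + (Xp.card : ℂ) * t) + 1 = e := by exact_mod_cast N.rel
      rw [hw, Nat.cast_one, one_mul] at h2
      linear_combination h2
    · rename_i hq
      rw [Finset.sum_congr rfl fun χ _ => hLq χ q hq, hLq θ q hq]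
      exact N.rel_q hθ q.2 fun h1 => hq (Subtype.ext h1)
  have hinner : ∀ f : Subgroup.zpowers y → ℂ,
      classInner (one + ∑ χ ∈ Xp, L χ + L θ) f = conj (f 1) := by
    intro f
    rw [hR]
    simp only [classInner, ite_mul, zero_mul, Finset.sum_ite_eq', Finset.mem_univ, if_true, hcard]
    rw [← mul_assoc, inv_mul_cancel₀ he0, one_mul]
  have hone1 : classInner one one = 1 := by
    simp [classInner, h11]
  -- inner products with the principal character
  choose a ha using fun χ => CfsgLib.Char.IsCharacter.exists_nat_classInner' (hL χ) hone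
  have hzero : (∀ χ ∈ Xp, a χ = 0) ∧ a θ = 0 := by
    have h1 := hinner one
    rw [h11, map_one, CfsgLib.Char.classInner_add_left, CfsgLib.Char.classInner_add_left,
      CfsgLib.Char.classInner_sum_left, hone1, Finset.sum_congr rfl fun χ _ => ha χ, ha θ] at h1
    have h2 : ((1 + ∑ χ ∈ Xp, a χ + a θ : ℕ) : ℂ) = ((1 : ℕ) : ℂ) := by push_cast; exact h1
    have h3 := Nat.cast_injective h2
    have h4 : ∑ χ ∈ Xp, a χ = 0 := by omega
    exact ⟨fun χ hχ => Finset.sum_eq_zero_iff.1 h4 χ hχ, by omega⟩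
  have hsum : ∀ χ : IrrCharacter G, a χ = 0 → ∑ q ∈ (Finset.univ : Finset (Subgroup.zpowers y)).erase 1,
      (χ : G → ℂ) (q : G) = -(L χ 1) := by
    intro χ h0
    have h1 := ha χ
    rw [h0, Nat.cast_zero, classInner, hcard, mul_eq_zero] at h1
    have h2 := h1.resolve_left (inv_ne_zero he0)
    simp only [h11, map_one, mul_one] at h2
    rw [← Finset.add_sum_erase _ _ (Finset.mem_univ 1), Finset.sum_congr rfl (fun q hq =>
      hLq χ q (Finset.mem_erase.1 hq).1)] at h2
    linear_combination h2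
  -- the norms
  choose b hb using fun χ => CfsgLib.Char.IsCharacter.exists_nat_classInner' (hL χ) (hL χ)
  have hsq : ∀ χ : IrrCharacter G, ∑ q ∈ (Finset.univ : Finset (Subgroup.zpowers y)).erase 1,
      (χ : G → ℂ) (q : G) * conj ((χ : G → ℂ) (q : G)) + L χ 1 * conj (L χ 1) = (e : ℂ) * b χ := by
    intro χ
    have h1 := hb χ
    rw [classInner, hcard, inv_mul_eq_iff_eq_mul₀ he0, ← Finset.add_sum_erase _ _
      (Finset.mem_univ 1), Finset.sum_congr rfl (fun q hq => by
        rw [hLq χ q (Finset.mem_erase.1 hq).1])] at h1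
    linear_combination h1
  choose c hc using fun χ ψ => CfsgLib.Char.IsCharacter.exists_nat_classInner' (hL χ) (hL ψ)
  choose d hd using fun χ => CfsgLib.Char.IsCharacter.exists_nat_classInner' hone (hL χ)
  have hexp : ∀ χ, ((d χ + ∑ ψ ∈ Xp, c ψ χ + c θ χ : ℕ) : ℂ) = conj (L χ 1) := by
    intro χ
    rw [← hinner (L χ), CfsgLib.Char.classInner_add_left, CfsgLib.Char.classInner_add_left,
      CfsgLib.Char.classInner_sum_left, Finset.sum_congr rfl fun ψ _ => hc ψ χ, hc θ χ, hd χ]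
    push_cast
    rfl
  have hbc : ∀ χ, b χ = c χ χ := fun χ => Nat.cast_injective (R := ℂ) ((hb χ).symm.trans (hc χ χ))
  refine ⟨b, b θ, fun χ hχ => ?_, ?_, fun χ hχ => ?_, ?_, fun χ hχ => ?_, ?_⟩
  · have h1 := hexp χ
    rw [hX1 χ hχ, Complex.conj_natCast] at h1
    have h2 := Nat.cast_injective h1
    have h3 := Finset.single_le_sum (f := fun ψ => c ψ χ) (fun _ _ => Nat.zero_le _) hχ
    rw [hbc]
    omega
  · have h1 := hexp θ
    rw [hθ1, map_one, ← Nat.cast_one] at h1
    have h2 := Nat.cast_injective h1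
    rw [hbc]
    omega
  · rw [hsum χ (hzero.1 χ hχ), hX1 χ hχ]
  · rw [hsum θ hzero.2, hθ1]
  · have h1 := hsq χ
    rwa [hX1 χ hχ, Complex.conj_natCast] at h1
  · have h1 := hsq θ
    rwa [hθ1, map_one, mul_one] at h1

variable {u : G} (hu : u ∈ Subgroup.zpowers y) (hu2 : orderOf u = 2)

include hu hu2

theorem sum_cent_and_pairs (k : IrrCharacter G → ℕ)
    (hk : ∀ χ ∈ offBlock X Y, deg χ = p * k χ) [Fintype (Subgroup.zpowers y)] :
    (∑ q ∈ (Finset.univ : Finset (Subgroup.zpowers y)).erase 1, Nat.card (Pairs u (q : G)) =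
        (e - 1) * e * (t - 1)) ∧
      ∑ q ∈ (Finset.univ : Finset (Subgroup.zpowers y)).erase 1,
          Nat.card (Subgroup.centralizer ({(q : G)} : Set G)) + Xp.card * (t * t) + t ≤
        (e - 1) * t + e * (Xp.card * t) + e * t := by
  have D := N.degs
  obtain ⟨hw, hnt, hCu⟩ := N.w_one hu hu2 k hk
  obtain ⟨θ, hθ⟩ := N.exists_theta
  obtain ⟨mX, mθ, hmX, hmθ, hXs, hθs, hX2, hθ2⟩ := N.sums_y hw hnt hθ
  have hu1 := N.u_ne hu hu2
  have he := N.num.he
  set E := (Finset.univ : Finset (Subgroup.zpowers y)).erase 1 with hE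
  have hcE : (E.card : ℂ) = (e : ℂ) - 1 := by
    rw [hE, Finset.card_erase_of_mem (Finset.mem_univ _), Finset.card_univ,
      ← Nat.card_eq_fintype_card, Nat.card_zpowers, N.num.orderOf_y, Nat.cast_sub (by omega),
      Nat.cast_one]
  have hmem : ∀ q ∈ E, (q : G) ∈ Subgroup.zpowers y ∧ (q : G) ≠ 1 := fun q hq =>
    ⟨q.2, fun h1 => (Finset.mem_erase.1 hq).1 (Subtype.ext h1)⟩
  have hnt' : (n : ℂ) + 1 = t := by exact_mod_cast hnt
  refine ⟨?_, ?_⟩
  · -- the pairs
    have hQ := N.card_cent k hk hθ hu hu1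
    rw [hCu] at hQ
    have hev : ∀ q ∈ E, (Nat.card (Pairs u (q : G)) : ℂ) * ((e * t : ℕ) : ℂ) ^ 2 =
        (Nat.card G : ℂ) * (1 + (∑ χ ∈ Xp, ((χ : G → ℂ) u * conj ((χ : G → ℂ) u) / ((t : ℂ) * v)) *
            conj ((χ : G → ℂ) (q : G))) +
          (t : ℂ) * ((θ : G → ℂ) u * conj ((θ : G → ℂ) u) / v * conj ((θ : G → ℂ) (q : G))) +
          (n : ℂ) / p) := by
      intro q hq
      obtain ⟨hq1, hq2⟩ := hmem q hq
      rw [← hCu, card_pairs_formula]
      congr 1
      rw [sum_split D, CfsgLib.Char.principalIrr_apply, CfsgLib.Char.principalIrr_apply,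
        CfsgLib.Char.principalIrr_apply,
        Finset.sum_congr rfl (s₁ := Xp) (g := fun χ =>
          ((χ : G → ℂ) u * conj ((χ : G → ℂ) u) / ((t : ℂ) * v)) * conj ((χ : G → ℂ) (q : G)))
          (fun χ hχ => by
            rw [N.u_real hu hu2, ← deg_cast χ, (D.plus χ hχ).2, D.N_eq, Nat.cast_mul]),
        Finset.sum_eq_zero (s := Xm) (fun χ hχ => by
          rw [N.vanish_minus hχ hu hu1, mul_zero, zero_div, zero_mul]),
        Finset.sum_congr rfl (s₁ := Y) (g := fun _ =>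
          (θ : G → ℂ) u * conj ((θ : G → ℂ) u) / v * conj ((θ : G → ℂ) (q : G)))
          (fun θ' hθ' => by
            rw [D.blk.eq_Y θ' hθ' θ hθ u (N.num.not_dvd_orderOf hu),
              D.blk.eq_Y θ' hθ' θ hθ _ (N.num.not_dvd_orderOf hq1), N.u_real hu hu2,
              ← deg_cast θ', D.blk.deg_Y θ' hθ', N.hf]),
        Finset.sum_congr rfl (s₁ := offBlock X Y) (g := fun χ => ((k χ ^ 2 : ℕ) : ℂ) / p)
          (fun χ hχ => by
            obtain ⟨k', hk', hk0⟩ := off_dvd D hχ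
            have hkk : k' = k χ :=
              Nat.eq_of_mul_eq_mul_left N.num.ctx.prime.pos (hk'.symm.trans (hk χ hχ))
            have hk1 : (k χ : ℂ) ≠ 0 := Nat.cast_ne_zero.2 (by omega)
            have hp0 : (p : ℂ) ≠ 0 := Nat.cast_ne_zero.2 N.num.ctx.prime.ne_zero
            rw [N.val_off_q k hk hu hu1 hχ, N.val_off_q k hk hq1 hq2 hχ, ← deg_cast χ, hk χ hχ,
              Complex.conj_natCast]
            push_cast
            field_simp),
        ← Finset.sum_div, ← Nat.cast_sum, N.sum_off_sq k hk, Finset.sum_const, D.blk.card_Y,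
        nsmul_eq_mul, map_one]
      ring
    have hsum := Finset.sum_congr rfl hev
    rw [← Finset.sum_mul, ← Finset.mul_sum, Finset.sum_add_distrib, Finset.sum_add_distrib,
      Finset.sum_add_distrib, Finset.sum_comm (s := E) (t := Xp), Finset.sum_const,
      Finset.sum_const, nsmul_eq_mul, nsmul_eq_mul, hcE, ← Finset.mul_sum, ← Finset.mul_sum,
      ← map_sum, hθs,
      Finset.sum_congr rfl (s₁ := Xp) (g := fun χ =>
        ((χ : G → ℂ) u * conj ((χ : G → ℂ) u)) * (-(t : ℂ) / ((t : ℂ) * v)))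
        (fun χ hχ => by
          rw [← Finset.mul_sum, ← map_sum, hXs χ hχ, map_neg, Complex.conj_natCast]; ring),
      ← Finset.sum_mul, map_neg, map_one, N.card_G, ← Nat.cast_sum] at hsum
    generalize ∑ χ ∈ Xp, (χ : G → ℂ) u * conj ((χ : G → ℂ) u) = Q at hQ hsum
    refine Nat.cast_injective (R := ℂ) ?_
    generalize ∑ q ∈ E, Nat.card (Pairs u (q : G)) = SA at hsum ⊢
    have hp0 : (p : ℂ) ≠ 0 := Nat.cast_ne_zero.2 N.num.ctx.prime.ne_zero
    have hv0 : (v : ℂ) ≠ 0 := Nat.cast_ne_zero.2 D.v_pos.ne'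
    have ht0 : (t : ℂ) ≠ 0 := Nat.cast_ne_zero.2 (by have := D.t2; omega)
    have he0 : (e : ℂ) ≠ 0 := Nat.cast_ne_zero.2 (by omega)
    have hv : (v : ℂ) + e = p := by
      have := D.hv
      rw [hw, one_mul] at this
      exact_mod_cast this
    have hp' : (e : ℂ) * t + 1 = p := by exact_mod_cast N.num.het
    push_cast [Nat.cast_sub (show 1 ≤ e by omega), Nat.cast_sub (show 1 ≤ t by
      have := D.t2; omega)] at hsum hQ ⊢
    field_simp at hsum
    refine mul_left_cancel₀ ht0 (mul_left_cancel₀ he0 ?_)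
    rw [← hp'] at hsum hv
    rw [show (n : ℂ) = t - 1 by linear_combination hnt'] at hsum hQ
    rw [show (v : ℂ) = e * t + 1 - e by linear_combination hv] at hsum
    linear_combination (norm := skip) hsum
    rw [show Q = (e : ℂ) * t - t - (t : ℂ) * ((θ : G → ℂ) u * conj ((θ : G → ℂ) u)) by
      linear_combination -hQ]
    ring
  · have h1 : ((∑ q ∈ E, Nat.card (Subgroup.centralizer ({(q : G)} : Set G)) +
        Xp.card * (t * t) + t : ℕ) : ℂ) =
        (((e - 1) * t + ∑ χ ∈ Xp, e * mX χ + t * (e * mθ) : ℕ) : ℂ) := by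
      push_cast [Nat.cast_sub (show 1 ≤ e by omega)]
      rw [Finset.sum_congr rfl fun q hq => N.card_cent k hk hθ (hmem q hq).1 (hmem q hq).2,
        Finset.sum_add_distrib, Finset.sum_add_distrib, Finset.sum_add_distrib,
        Finset.sum_comm (s := E) (t := Xp), ← Finset.mul_sum, Finset.sum_const, Finset.sum_const,
        nsmul_eq_mul, nsmul_eq_mul, hcE,
        ← Finset.sum_congr (s₁ := Xp) rfl hX2, Finset.sum_add_distrib, Finset.sum_const,
        nsmul_eq_mul]
      linear_combination ((e : ℂ) - 1) * hnt' + (t : ℂ) * hθ2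
    rw [Nat.cast_injective h1]
    have h2 : ∑ χ ∈ Xp, e * mX χ ≤ e * (Xp.card * t) := by
      rw [← Finset.mul_sum]
      refine Nat.mul_le_mul_left e ((Finset.sum_le_card_nsmul _ _ t hmX).trans ?_)
      rw [smul_eq_mul]
    have h3 : t * (e * mθ) ≤ e * t := by
      rw [mul_comm e t]
      exact Nat.mul_le_mul_left t (by
        calc e * mθ ≤ e * 1 := Nat.mul_le_mul_left e hmθ
          _ = e := mul_one e)
    omega

/-- Either `e = 2` or `t = 2`. -/
theorem e_or_t (k : IrrCharacter G → ℕ) (hk : ∀ χ ∈ offBlock X Y, deg χ = p * k χ) :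
    e = 2 ∨ t = 2 := by
  letI := Fintype.ofFinite (Subgroup.zpowers y)
  obtain ⟨hA, hC⟩ := N.sum_cent_and_pairs hu hu2 k hk
  obtain ⟨hw, -, -⟩ := N.w_one hu hu2 k hk
  have hle := Finset.sum_le_sum (s := (Finset.univ : Finset (Subgroup.zpowers y)).erase 1)
    fun q _ => card_pairs_le (c := (q : G)) (N.u_sq hu hu2)
  rw [hA] at hle
  have hrel := N.rel
  rw [hw, one_mul] at hrel
  obtain ⟨e', he'⟩ := N.even_e
  have he := N.num.he
  have ht := N.degs.t2
  by_contra hcon
  push Not at hcon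
  obtain ⟨x, rfl⟩ : ∃ x, e = x + 4 := ⟨e - 4, by omega⟩
  obtain ⟨s, rfl⟩ : ∃ s, t = s + 3 := ⟨t - 3, by omega⟩
  rw [show x + 4 - 1 = x + 3 by omega, show s + 3 - 1 = s + 2 by omega] at hle
  rw [show x + 4 - 1 = x + 3 by omega, show Xp.card * (s + 3) = x + 2 by omega,
    show Xp.card * ((s + 3) * (s + 3)) = (x + 2) * (s + 3) by
      rw [← mul_assoc, show Xp.card * (s + 3) = x + 2 by omega]] at hC
  have h5 : (x + 4) * (x + 2 + (s + 3)) < (x + 3) * (x + 4) * (s + 2) := by
    rw [show (x + 3) * (x + 4) * (s + 2) = (x + 4) * ((x + 3) * (s + 2)) by ring]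
    exact Nat.mul_lt_mul_of_pos_left (by nlinarith) (by omega)
  nlinarith

end Neg

end CfsgLib.BrauerRey
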