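import Cfsg.Agent.Lib.BrauerRey.Values
import Cfsg.Agent.Lib.CharDeep.ClassSum
import Cfsg.Agent.Lib.Invol.Counting

/-!
# Counting products of two involutions
-/

set_option autoImplicit false

namespace CfsgLib.BrauerRey

open Cfsg CfsgLib.DefectOne
open scoped ComplexConjugate Classical

universe u

variable {G : Type u} [Group G] [Finite G]

/-- The pairs in the class of `a` with product `c`. -/
abbrev Pairs (a c : G) : Type u :=
  {pr : G × G // IsConj a pr.1 ∧ IsConj a pr.2 ∧ pr.1 * pr.2 = c}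

theorem card_pairs_formula (a c : G) :
    (Nat.card (Pairs a c) : ℂ) * (Nat.card (Subgroup.centralizer ({a} : Set G)) : ℂ) ^ 2 =
      (Nat.card G : ℂ) * ∑ χ : IrrCharacter G,
        ((χ : G → ℂ) a * (χ : G → ℂ) a / (χ : G → ℂ) 1) * conj ((χ : G → ℂ) c) := by
  cases nonempty_fintype G
  have h1 := CfsgLib.CharDeep.ClassSum.card_pairs a a c
  have hcl : ((Finset.univ.filter (IsConj a)).card : ℂ) *
      (Nat.card (Subgroup.centralizer ({a} : Set G)) : ℂ) = (Nat.card G : ℂ) := by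
    rw [← Nat.cast_mul, ← Fintype.card_subtype, ← Nat.card_eq_fintype_card,
      CfsgLib.Invol.card_isConj_eq_index, mul_comm, Subgroup.card_mul_index]
  have hP : Nat.card (Pairs a c) = ((Finset.univ.filter (IsConj a) ×ˢ
      Finset.univ.filter (IsConj a)).filter (fun pr => pr.1 * pr.2 = c)).card := by
    rw [Nat.card_eq_fintype_card, Fintype.card_subtype]
    congr 1
    ext pr
    simp [and_assoc]
  rw [hP, h1, Finset.sum_congr rfl (g := fun χ : IrrCharacter G =>
    ((χ : G → ℂ) a * (χ : G → ℂ) a / (χ : G → ℂ) 1) * conj ((χ : G → ℂ) c))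
    (fun χ _ => by rw [div_mul_eq_mul_div])]
  have hG : (Nat.card G : ℂ) ≠ 0 := Nat.cast_ne_zero.2 Nat.card_pos.ne'
  generalize hcd : ((Finset.univ.filter (IsConj a)).card : ℂ) = cl at hcl ⊢
  rw [← hcl] at hG ⊢
  field_simp

theorem inverts_of_pairs {a c : G} (ha : a * a = 1) (pr : Pairs a c) :
    pr.1.1 * c * pr.1.1⁻¹ = c⁻¹ ∧ pr.1.1 * pr.1.1 = 1 := by
  obtain ⟨⟨r, s⟩, hr, hs, rfl⟩ := pr
  have hsq : ∀ x : G, IsConj a x → x * x = 1 := fun x hx => by
    obtain ⟨g, rfl⟩ := isConj_iff.1 hx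
    rw [show g * a * g⁻¹ * (g * a * g⁻¹) = g * (a * a) * g⁻¹ by group, ha, mul_one, mul_inv_cancel]
  refine ⟨?_, hsq r hr⟩
  show r * (r * s) * r⁻¹ = (r * s)⁻¹
  rw [← mul_assoc, hsq r hr, one_mul, mul_inv_rev, show s⁻¹ = s from inv_eq_of_mul_eq_one_right (hsq s hs)]

theorem card_pairs_le {a c : G} (ha : a * a = 1) :
    Nat.card (Pairs a c) ≤ Nat.card (Subgroup.centralizer ({c} : Set G)) := by
  rcases isEmpty_or_nonempty (Pairs a c) with hE | ⟨⟨pr⟩⟩
  · simp
  · rw [← CfsgLib.Invol.card_inverting_of_isConj (isConj_iff.2 ⟨_, (inverts_of_pairs ha pr).1⟩)]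
    refine Nat.card_le_card_of_injective
      (fun pr : Pairs a c => (⟨pr.1.1, (inverts_of_pairs ha pr).1⟩ :
        {g : G // g * c * g⁻¹ = c⁻¹})) fun q r hqr => ?_
    have h1 : q.1.1 = r.1.1 := congrArg Subtype.val hqr
    refine Subtype.ext (Prod.ext h1 (mul_left_cancel (a := q.1.1) ?_))
    rw [q.2.2.2, h1, r.2.2.2]

variable {p : ℕ} [Fact p.Prime] {z y : G} {e t n : ℕ}

theorem Num.commute_z_pow {e t n : ℕ} (h : Num p z y e t n) {g : G} (hg : g ∈ norm₁ z)
    (hgo : orderOf g = 2) : g * z * g⁻¹ = z⁻¹ := by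
  have hgg : g * g = 1 := by rw [← sq, ← hgo, pow_orderOf_eq_one]
  have hgi : g⁻¹ = g := inv_eq_of_mul_eq_one_right hgg
  have hm : g * z * g⁻¹ ∈ Subgroup.zpowers z :=
    (Subgroup.mem_normalizer_iff.1 hg z).1 (Subgroup.mem_zpowers z)
  obtain ⟨i, -, hi⟩ := h.ctx.hyp.mem_zpowers_iff_pow.1 (mul_mem hm (Subgroup.mem_zpowers z))
  obtain ⟨j, hj⟩ := Subgroup.mem_zpowers_iff.1 hm
  have hcomm : Commute g (z ^ i) := by
    rw [hi]
    show g * (g * z * g⁻¹ * z) = g * z * g⁻¹ * z * g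
    have hc : g * z * g⁻¹ * z = z * (g * z * g⁻¹) := by
      rw [← hj, ((Commute.refl z).zpow_left j).eq]
    calc g * (g * z * g⁻¹ * z) = (g * g) * z * g⁻¹ * z := by group
      _ = z * g⁻¹ * z := by rw [hgg, one_mul]
      _ = z * g * z := by rw [hgi]
      _ = z * (g * z * g⁻¹) * g := by group
      _ = g * z * g⁻¹ * z * g := by rw [hc]
  by_cases hip : p ∣ i
  · rw [h.ctx.hyp.pow_eq_one_iff.2 hip] at hi
    exact eq_inv_of_mul_eq_one_left hi.symm
  · have hgp : ¬ p ∣ orderOf g := by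
      rw [hgo]
      intro hd
      have := Nat.le_of_dvd (by omega) hd
      have := h.p_odd
      omega
    rw [h.ctx.eq_one_of_commute hgp hip hcomm, orderOf_one] at hgo
    norm_num at hgo

variable {X Y : Finset (IrrCharacter G)} {σ : IrrCharacter G → ℤ} {δ : ℤ} {f₀ : ℕ}
  {w v : ℕ} {Xp Xm : Finset (IrrCharacter G)}

namespace Neg

variable (N : Neg p z y e t n X Y σ δ f₀ w v Xp Xm)

include N

theorem card_G : Nat.card G = p * (e * (t * v)) := by
  rw [N.num.card_eq, N.degs.N_eq]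

theorem even_e : Even e := by
  rcases Nat.even_or_odd e with he | ho
  · exact he
  exfalso
  have D := N.degs
  have hp := N.num.ctx.prime
  have hpodd : Odd p := hp.odd_of_ne_two (by have := N.num.p_odd; omega)
  have ht : Even t := by
    rcases Nat.even_or_odd t with h | h
    · exact h
    · have h1 : Odd (e * t) := ho.mul h
      rw [← N.num.het, Nat.odd_add_one] at hpodd
      exact absurd h1 hpodd
  have hw : Even w := by
    rcases Nat.even_or_odd w with h | h
    · exact h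
    · exfalso
      have h2 : Odd (1 + Xp.card * t) := odd_one.add_even (ht.mul_left _)
      have h3 := h.mul h2
      rw [← N.rel, Nat.odd_add_one] at ho
      exact ho h3
  have hv : Odd v := by
    rcases Nat.even_or_odd v with h | h
    · exfalso
      have h3 : Odd (v + e) := h.add_odd ho
      rw [D.hv] at h3
      exact (Nat.not_even_iff_odd.2 h3) (hw.mul_right _)
    · exact h
  have ht0 : t ≠ 0 := by have := D.t2; omega
  -- the two-part of the group order is that of `t`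
  set m := t.factorization 2
  have hm : 2 ^ m ∣ t := Nat.ordProj_dvd t 2
  have hm1 : ¬ 2 ^ (m + 1) ∣ Nat.card G := by
    intro hd
    rw [N.card_G, show p * (e * (t * v)) = (p * e * v) * t by ring] at hd
    have hodd : Odd (p * e * v) := (hpodd.mul ho).mul hv
    exact Nat.pow_succ_factorization_not_dvd ht0 Nat.prime_two
      ((Nat.Coprime.pow_left _ (Nat.coprime_two_left.2 hodd)).dvd_of_dvd_mul_left hd)
  have hmG : 2 ^ m ∣ Nat.card G := by
    rw [N.card_G, show p * (e * (t * v)) = t * (p * e * v) by ring]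
    exact hm.mul_right _
  haveI : Fact (Nat.Prime 2) := ⟨Nat.prime_two⟩
  obtain ⟨s, hs⟩ := exists_prime_orderOf_dvd_card' (G := G) 2 (by
    rw [N.card_G]
    exact dvd_mul_of_dvd_right (dvd_mul_of_dvd_right (ht.two_dvd.mul_right _) _) _)
  have hsp : ¬ p ∣ orderOf s := by
    rw [hs]
    intro hd
    have := Nat.le_of_dvd (by omega) hd
    have := N.num.p_odd
    omega
  have hXp : ∀ χ ∈ Xp, (χ : G → ℂ) s = 0 := fun χ hχ =>
    vanish Nat.prime_two hmG hm1 (by rw [(D.plus χ hχ).2, D.N_eq]; exact hm.mul_right _)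
      (by rw [hs])
  have hXm : ∀ χ ∈ Xm, (χ : G → ℂ) s = 0 := fun χ hχ =>
    vanish Nat.prime_two hmG hm1 (by rw [(D.minus χ hχ).2]; exact hm.mul_left _) (by rw [hs])
  have hθ : ∀ θ ∈ Y, (θ : G → ℂ) s = -1 := fun θ hθ => by
    have h1 := D.relation hθ hsp
    rw [N.hδ, Finset.sum_eq_zero hXp, Finset.sum_eq_zero hXm] at h1
    push_cast at h1
    linear_combination -h1
  have h2 := card_pairs_formula s z
  rw [sum_conj_z D (fun χ => (χ : G → ℂ) s * (χ : G → ℂ) s / (χ : G → ℂ) 1) ((v : ℂ)⁻¹)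
      (fun θ hθ' => by
        rw [hθ θ hθ', ← deg_cast, D.blk.deg_Y θ hθ', N.hf]
        simp),
    Finset.sum_eq_zero (s := Xp) (fun χ hχ => by rw [hXp χ hχ, mul_zero, zero_div]),
    Finset.sum_eq_zero (s := Xm) (fun χ hχ => by rw [hXm χ hχ, mul_zero, zero_div]),
    N.hδ] at h2
  simp only [CfsgLib.Char.principalIrr_apply] at h2
  have h3 : Nat.card (Pairs s z) = 0 := by
    rw [Nat.card_eq_zero]
    refine Or.inl ⟨fun pr => ?_⟩
    have hss : s * s = 1 := by rw [← sq, ← hs, pow_orderOf_eq_one]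
    obtain ⟨hinv, hsq⟩ := inverts_of_pairs hss pr
    have hn : pr.1.1 ∈ norm₁ z := by
      refine N.num.ctx.hyp.mem_norm_iff.2 ⟨p - 1, fun hd => ?_, ?_⟩
      · have := Nat.le_of_dvd (by have := hp.two_le; omega) hd
        have := hp.two_le
        omega
      · rw [hinv]
        refine (eq_inv_of_mul_eq_one_left ?_).symm
        rw [← pow_succ, Nat.sub_add_cancel hp.one_le, N.num.ctx.hyp.pow_p]
    have hd := Subgroup.orderOf_dvd_natCard _ hn
    obtain ⟨g, hg⟩ := isConj_iff.1 pr.2.1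
    have ho2 : orderOf pr.1.1 = 2 := by
      rw [← hg, show orderOf (g * s * g⁻¹) = orderOf s from
        orderOf_injective (MulAut.conj g).toMonoidHom (MulAut.conj g).injective _, hs]
    rw [ho2, N.num.card_norm] at hd
    exact (Nat.not_even_iff_odd.2 (hpodd.mul ho)) (even_iff_two_dvd.2 hd)
  rw [h3, Nat.cast_zero, zero_mul, eq_comm, mul_eq_zero] at h2
  rcases h2 with h2 | h2
  · exact Nat.cast_ne_zero.2 Nat.card_pos.ne' h2
  · have hv0 : (v : ℂ) ≠ 0 := Nat.cast_ne_zero.2 D.v_pos.ne'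
    push_cast at h2
    field_simp at h2
    ring_nf at h2
    have : ((1 + v : ℕ) : ℂ) = 0 := by push_cast; linear_combination h2
    rw [Nat.cast_eq_zero] at this
    omega

theorem exists_u : ∃ u ∈ Subgroup.zpowers y, orderOf u = 2 ∧ u ≠ 1 := by
  obtain ⟨e', he'⟩ := N.even_e
  have he := N.num.he
  refine ⟨y ^ e', Subgroup.npow_mem_zpowers y e', ?_, ?_⟩
  · rw [orderOf_pow_of_dvd (by omega) ⟨2, by rw [N.num.orderOf_y]; omega⟩, N.num.orderOf_y,
      he', ← two_mul, Nat.mul_div_cancel _ (by omega)]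
  · intro h1
    have := Nat.le_of_dvd (by omega) (orderOf_dvd_of_pow_eq_one h1)
    rw [N.num.orderOf_y] at this
    omega

variable {u : G} (hu : u ∈ Subgroup.zpowers y) (hu2 : orderOf u = 2)

include hu hu2

theorem u_ne : u ≠ 1 := fun h => by rw [h, orderOf_one] at hu2; norm_num at hu2

theorem u_sq : u * u = 1 := by rw [← sq, ← hu2, pow_orderOf_eq_one]

theorem u_real (χ : IrrCharacter G) : conj ((χ : G → ℂ) u) = (χ : G → ℂ) u := by
  rw [← CfsgLib.Char.IsIrrCharacter.apply_inv χ.2, inv_eq_of_mul_eq_one_right (N.u_sq hu hu2)]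

theorem u_inverts {x : G} (hx : x ∈ Subgroup.zpowers z) : u * x * u⁻¹ = x⁻¹ := by
  obtain ⟨i, rfl⟩ := Subgroup.mem_zpowers_iff.1 hx
  rw [← conj_zpow, N.num.commute_z_pow (N.num.mem_norm hu) hu2, inv_zpow]

theorem card_pairs_z : Nat.card (Pairs u z) = p := by
  have hu1 := N.u_ne hu hu2
  have huu := N.u_sq hu hu2
  have hui : u⁻¹ = u := inv_eq_of_mul_eq_one_right huu
  let f : Subgroup.zpowers z → Pairs u z := fun x =>
    ⟨((x : G) * u, (x : G) * z⁻¹ * u), N.num.isConj_mul hu hu1 x.2,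
      N.num.isConj_mul hu hu1 (mul_mem x.2 (inv_mem (Subgroup.mem_zpowers z))), by
      show (x : G) * u * ((x : G) * z⁻¹ * u) = z
      calc (x : G) * u * ((x : G) * z⁻¹ * u) = (x : G) * (u * ((x : G) * z⁻¹) * u⁻¹) * (u * u) := by
            group
        _ = z := by
            obtain ⟨i, hi⟩ := Subgroup.mem_zpowers_iff.1 x.2
            rw [N.u_inverts hu hu2 (mul_mem x.2 (inv_mem (Subgroup.mem_zpowers z))), huu, mul_one,
              ← hi]
            group⟩
  rw [← Nat.card_eq_of_bijective f ⟨fun a b hab => ?_, fun pr => ?_⟩, N.num.ctx.card_zpowers]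
  · have := congrArg (fun pr : Pairs u z => pr.1.1) hab
    exact Subtype.ext (mul_right_cancel this)
  · obtain ⟨hinv, hsq⟩ := inverts_of_pairs huu pr
    have hx : pr.1.1 * u ∈ Subgroup.zpowers z := by
      rw [← N.num.ctx.cent_eq, Subgroup.mem_centralizer_singleton_iff]
      have h2 : u * z⁻¹ * u⁻¹ = z := by
        rw [← conj_inv, N.u_inverts hu hu2 (Subgroup.mem_zpowers z), inv_inv]
      have h3 : pr.1.1 * z⁻¹ * pr.1.1⁻¹ = z := by rw [← conj_inv, hinv, inv_inv]
      calc pr.1.1 * u * z = pr.1.1 * (u * z * u⁻¹) * u := by group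
        _ = pr.1.1 * z⁻¹ * pr.1.1⁻¹ * (pr.1.1 * u) := by
            rw [N.u_inverts hu hu2 (Subgroup.mem_zpowers z)]; group
        _ = z * (pr.1.1 * u) := by rw [h3]
    refine ⟨⟨_, hx⟩, Subtype.ext (Prod.ext ?_ ?_)⟩
    · show pr.1.1 * u * u = pr.1.1
      rw [mul_assoc, huu, mul_one]
    · apply mul_left_cancel (a := pr.1.1)
      show pr.1.1 * (pr.1.1 * u * z⁻¹ * u) = pr.1.1 * pr.1.2
      rw [pr.2.2.2]
      calc pr.1.1 * (pr.1.1 * u * z⁻¹ * u) = pr.1.1 * pr.1.1 * (u * z⁻¹ * u⁻¹) * (u * u) := by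
            group
        _ = z := by
            rw [hsq, huu, one_mul, mul_one,
              N.u_inverts hu hu2 (inv_mem (Subgroup.mem_zpowers z)), inv_inv]

/-- The order of the centraliser of `u`. -/
theorem cent_u_eq (k : IrrCharacter G → ℕ) (hk : ∀ χ ∈ offBlock X Y, deg χ = p * k χ) :
    Nat.card (Subgroup.centralizer ({u} : Set G)) ^ 2 =
      e * (Nat.card (Subgroup.centralizer ({u} : Set G)) + n * (e * t)) := by
  have D := N.degs
  obtain ⟨θ, hθ⟩ := N.exists_theta
  have hu1 := N.u_ne hu hu2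
  have h1 := card_pairs_formula u z
  rw [N.card_pairs_z hu hu2] at h1
  rw [sum_conj_z D (fun χ => (χ : G → ℂ) u * (χ : G → ℂ) u / (χ : G → ℂ) 1)
      ((θ : G → ℂ) u * (θ : G → ℂ) u / v)
      (fun θ' hθ' => by
        rw [D.blk.eq_Y θ' hθ' θ hθ u (N.num.not_dvd_orderOf hu), ← deg_cast θ',
          D.blk.deg_Y θ' hθ', N.hf]),
    Finset.sum_congr rfl (s₁ := Xp)
      (g := fun χ => ((χ : G → ℂ) u * conj ((χ : G → ℂ) u)) / ((t : ℂ) * v))
      (fun χ hχ => by
        rw [N.u_real hu hu2, ← deg_cast χ, (D.plus χ hχ).2, D.N_eq, Nat.cast_mul]),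
    Finset.sum_eq_zero (s := Xm) (fun χ hχ => by
      rw [N.vanish_minus hχ hu hu1, mul_zero, zero_div]),
    ← Finset.sum_div, N.hδ, N.card_G] at h1
  have h2 := N.card_cent k hk hθ hu hu1
  rw [N.u_real hu hu2 θ] at h2
  simp only [CfsgLib.Char.principalIrr_apply] at h1
  generalize ∑ χ ∈ Xp, (χ : G → ℂ) u * conj ((χ : G → ℂ) u) = Q at h1 h2
  generalize Nat.card (Subgroup.centralizer ({u} : Set G)) = C at h1 h2 ⊢
  have hv : (v : ℂ) ≠ 0 := Nat.cast_ne_zero.2 D.v_pos.ne'
  have ht : (t : ℂ) ≠ 0 := Nat.cast_ne_zero.2 (by have := D.t2; omega)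
  push_cast at h1
  field_simp at h1
  refine Nat.cast_injective (R := ℂ) (mul_left_cancel₀
    (Nat.cast_ne_zero.2 N.num.ctx.prime.ne_zero) ?_)
  have hN : (t : ℂ) * v = 1 + (n : ℂ) * p := by
    have := D.N_eq
    rw [← Nat.cast_mul, ← this]; push_cast; ring
  have hp' : (e : ℂ) * t + 1 = p := by exact_mod_cast N.num.het
  push_cast
  linear_combination h1 + (p : ℂ) * e * hN - (p : ℂ) * e * h2 - (n : ℂ) * p * e * hp'

theorem not_dvd_cent : ¬ p ∣ Nat.card (Subgroup.centralizer ({u} : Set G)) := by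
  intro hd
  obtain ⟨g, hg⟩ := exists_prime_orderOf_dvd_card'
    (G := Subgroup.centralizer ({u} : Set G)) p hd
  obtain ⟨c, i, hi, hc⟩ := N.num.ctx.exists_pow_of_dvd (g := (g : G))
    (by rw [Subgroup.orderOf_coe, hg])
  have hcu : c * u * c⁻¹ = 1 := by
    refine N.num.ctx.eq_one_of_commute ?_ hi (hc ▸ SemiconjBy.conj_iff.2
      (Subgroup.mem_centralizer_singleton_iff.1 g.2).symm)
    rw [show orderOf (c * u * c⁻¹) = orderOf u from
      orderOf_injective (MulAut.conj c).toMonoidHom (MulAut.conj c).injective _]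
    exact N.num.not_dvd_orderOf hu
  exact N.u_ne hu hu2 (conj_eq_one_iff.1 hcu)

/-- `w = 1`, `n = t - 1` and `|C(u)| = e t`. -/
theorem w_one (k : IrrCharacter G → ℕ) (hk : ∀ χ ∈ offBlock X Y, deg χ = p * k χ) :
    w = 1 ∧ n + 1 = t ∧ Nat.card (Subgroup.centralizer ({u} : Set G)) = e * t := by
  have D := N.degs
  have h1 := N.cent_u_eq hu hu2 k hk
  have hnd := N.not_dvd_cent hu hu2
  have hdG : Nat.card (Subgroup.centralizer ({u} : Set G)) ∣ p * (e * (1 + n * p)) :=
    N.num.card_eq ▸ Subgroup.card_subgroup_dvd_card _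
  obtain ⟨K, hK⟩ : e ∣ Nat.card (Subgroup.centralizer ({u} : Set G)) := by
    have hle : Subgroup.zpowers y ≤ Subgroup.centralizer ({u} : Set G) := by
      intro g hg
      obtain ⟨i, rfl⟩ := Subgroup.mem_zpowers_iff.1 hg
      obtain ⟨j, rfl⟩ := Subgroup.mem_zpowers_iff.1 hu
      exact Subgroup.mem_centralizer_singleton_iff.2 (zpow_mul_comm y i j)
    have := Subgroup.card_dvd_of_le hle
    rwa [Nat.card_zpowers, N.num.orderOf_y] at this
  have hC0 : 0 < Nat.card (Subgroup.centralizer ({u} : Set G)) := Nat.card_pos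
  rw [hK] at h1 hnd hdG hC0 ⊢
  have he0 : 0 < e := by have := N.num.he; omega
  have hK0 : 0 < K := Nat.pos_of_mul_pos_left hC0
  have hkk : K * K = K + n * t := by
    refine Nat.eq_of_mul_eq_mul_left (Nat.mul_pos he0 he0) ?_
    calc e * e * (K * K) = (e * K) ^ 2 := by ring
      _ = _ := by rw [h1]; ring
  have hKN : K ∣ 1 + n * p := by
    have h2 := ((N.num.ctx.prime.coprime_iff_not_dvd.2 hnd).symm).dvd_of_dvd_mul_left hdG
    exact Nat.dvd_of_mul_dvd_mul_left he0 h2
  have hco : Nat.Coprime K n := Nat.Coprime.coprime_dvd_left hKN (by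
    rw [Nat.coprime_add_mul_left_left]; exact Nat.coprime_one_left n)
  obtain ⟨j, hj⟩ : K ∣ t := by
    refine hco.dvd_of_dvd_mul_left ?_
    exact (Nat.dvd_add_right (dvd_refl K)).1 (hkk ▸ dvd_mul_right K K)
  have hj' : K = 1 + n * j := by
    refine Nat.eq_of_mul_eq_mul_left hK0 ?_
    rw [hkk, hj]; ring
  have hn1 := N.num.hn
  have hnw := D.hnw
  have hw1 := D.w1
  rcases Nat.lt_or_ge j 2 with hj2 | hj2
  · interval_cases j
    · have := D.t2
      omega
    · rw [mul_one] at hj hj'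
      subst hj'
      subst hj
      have : w = 1 := by
        by_contra hne
        have : 2 * (1 + n) ≤ w * (1 + n) := Nat.mul_le_mul_right _ (by omega)
        omega
      subst this
      exact ⟨rfl, by omega, by rfl⟩
  · exfalso
    have h3 : (1 + n * j) * j ≤ n + 1 := by
      rw [← hj', ← hj, hnw]
      exact Nat.le_mul_of_pos_left _ hw1
    have h4 : n * 2 ≤ n * j := Nat.mul_le_mul_left n hj2
    have h5 : (1 + n * j) * 1 ≤ (1 + n * j) * j := Nat.mul_le_mul_left _ (by omega)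
    omega

end Neg

end CfsgLib.BrauerRey
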