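import Cfsg.Agent.Lib.BrauerRey.Setup
import Cfsg.Agent.Lib.Char.Basic
import Mathlib.LinearAlgebra.Determinant
import Mathlib.LinearAlgebra.Matrix.Determinant.Basic
import Mathlib.RingTheory.RootsOfUnity.PrimitiveRoots
import Mathlib.Analysis.Complex.Basic
import Mathlib.RingTheory.RootsOfUnity.Complex
import Mathlib.FieldTheory.KummerExtension

/-!
# The determinant of a regular representation of a cyclic group
-/

set_option autoImplicit false

namespace CfsgLib.BrauerRey

open Polynomial

universe u v

variable {G : Type u} [Group G] [Finite G] {V : Type v} [AddCommGroup V] [Module ℂ V]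
  [FiniteDimensional ℂ V]

theorem even_of_regular (hperf : commutator G = ⊤) (ρ : Representation ℂ G V) {y : G} {e k : ℕ}
    (hy : orderOf y = e) (hdim : Module.finrank ℂ V = k * e)
    (hval : ∀ j, ¬ e ∣ j → ρ.character (y ^ j) = 0) : Even ((e - 1) * k) := by
  classical
  obtain ⟨b, μ, hμ, hb⟩ := CfsgLib.Char.exists_eigenbasis ρ y
  rw [hy] at hμ
  have he : 0 < e := hy ▸ orderOf_pos y
  have hsum : ∀ j : ℕ, ρ.character (y ^ j) = ∑ i, μ i ^ j := by
    intro j
    refine CfsgLib.Char.trace_eq_sum_of_eigenbasis _ b _ fun i => ?_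
    induction j with
    | zero => simp
    | succ j ih =>
      rw [map_pow] at ih ⊢
      rw [pow_succ', Module.End.mul_apply, ih, map_smul, hb, smul_smul, pow_succ]
  -- the determinant is trivial
  have hdet : ∏ i, μ i = 1 := by
    have h1 : LinearMap.det (ρ y) = ∏ i, μ i := by
      rw [← LinearMap.det_toMatrix b]
      have h2 : LinearMap.toMatrix b b (ρ y) = Matrix.diagonal μ := by
        ext i j
        rw [LinearMap.toMatrix_apply, hb, map_smul, Finsupp.smul_apply, b.repr_self,
          Finsupp.single_apply, Matrix.diagonal_apply, smul_eq_mul]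
        by_cases h : j = i
        · subst h; simp
        · simp [h, Ne.symm h]
      rw [h2, Matrix.det_diagonal]
    have h3 := hom_eq_one hperf ((LinearMap.det.comp ρ).toHomUnits) y
    have h4 := congrArg Units.val h3
    rw [MonoidHom.coe_toHomUnits, Units.val_one] at h4
    rw [← h1]
    exact h4
  -- every root of unity is taken `k` times
  have hcount : ∀ ω : ℂ, ω ^ e = 1 → (Finset.univ.filter fun i => μ i = ω).card = k := by
    intro ω hω
    have hω0 : ω ≠ 0 := fun h => by rw [h, zero_pow he.ne'] at hω; exact zero_ne_one hω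
    have hgeo : ∀ i, ∑ j ∈ Finset.range e, (ω⁻¹ * μ i) ^ j = if μ i = ω then (e : ℂ) else 0 := by
      intro i
      split_ifs with h
      · simp [h, inv_mul_cancel₀ hω0]
      · have hx : ω⁻¹ * μ i ≠ 1 := fun h' => h (by
          rw [inv_mul_eq_one₀ hω0] at h'; exact h'.symm)
        rw [geom_sum_eq hx, mul_pow, inv_pow, hω, hμ, inv_one, one_mul, sub_self, zero_div]
    have h1 : ((e : ℂ) * (Finset.univ.filter fun i => μ i = ω).card) = e * k := by
      calc (e : ℂ) * (Finset.univ.filter fun i => μ i = ω).card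
          = ∑ i, ∑ j ∈ Finset.range e, (ω⁻¹ * μ i) ^ j := by
            simp only [hgeo, Finset.sum_ite, Finset.sum_const_zero, add_zero, Finset.sum_const,
              nsmul_eq_mul]
            ring
        _ = ∑ j ∈ Finset.range e, ω⁻¹ ^ j * ρ.character (y ^ j) := by
            rw [Finset.sum_comm]
            simp only [mul_pow, ← Finset.mul_sum, hsum]
        _ = e * k := by
            rw [Finset.sum_eq_single 0]
            · rw [pow_zero, pow_zero, one_mul, Representation.char_one, hdim, Nat.cast_mul, mul_comm]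
            · intro j hj h0
              rw [hval j fun hd => h0 (Nat.eq_zero_of_dvd_of_lt hd (Finset.mem_range.1 hj)),
                mul_zero]
            · intro h0
              exact absurd (Finset.mem_range.2 he) h0
    exact_mod_cast mul_left_cancel₀ (Nat.cast_ne_zero.2 he.ne') h1
  obtain ⟨ζ, hζ⟩ : ∃ ζ : ℂ, IsPrimitiveRoot ζ e := ⟨_, Complex.isPrimitiveRoot_exp e he.ne'⟩
  have hprod : ∏ i, μ i = (∏ j ∈ Finset.range e, ζ ^ j) ^ k := by
    have hmem : ∀ i ∈ (Finset.univ : Finset _), μ i ∈ (Finset.range e).image (ζ ^ ·) := by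
      intro i _
      haveI : NeZero e := ⟨he.ne'⟩
      obtain ⟨j, hj, hji⟩ := hζ.eq_pow_of_pow_eq_one (hμ i)
      exact Finset.mem_image.2 ⟨j, Finset.mem_range.2 hj, hji⟩
    rw [← Finset.prod_fiberwise_of_maps_to hmem, Finset.prod_image
      (fun a ha b hb => hζ.pow_inj (Finset.mem_range.1 ha) (Finset.mem_range.1 hb)), ← Finset.prod_pow]
    refine Finset.prod_congr rfl fun j _ => ?_
    rw [Finset.prod_congr rfl fun i hi => (Finset.mem_filter.1 hi).2, Finset.prod_const,
      hcount _ (by rw [← pow_mul, mul_comm, pow_mul, hζ.pow_eq_one, one_pow])]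
  have hroots : ∏ j ∈ Finset.range e, ζ ^ j = (-1) ^ (e - 1) := by
    have h1 := X_pow_sub_C_eq_prod hζ he (α := (1 : ℂ)) (one_pow e)
    have h2 := congrArg (eval 0) h1
    simp only [eval_sub, eval_pow, eval_X, eval_C, zero_pow he.ne', eval_prod, zero_sub,
      mul_one] at h2
    rw [Finset.prod_neg, Finset.card_range] at h2
    obtain ⟨d, rfl⟩ : ∃ d, e = d + 1 := ⟨e - 1, by omega⟩
    rw [Nat.add_sub_cancel]
    have h3 : ((-1 : ℂ) ^ d) * ((-1) ^ d) = 1 := by rw [← mul_pow]; simp
    rw [pow_succ] at h2
    linear_combination ((-1 : ℂ) ^ d) * h2 - (∏ j ∈ Finset.range (d + 1), ζ ^ j) * h3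
  rw [hprod, hroots, ← pow_mul] at hdet
  rcases Nat.even_or_odd ((e - 1) * k) with h | h
  · exact h
  · rw [h.neg_one_pow] at hdet
    norm_num at hdet

end CfsgLib.BrauerRey
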