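import Cfsg.Agent.Lib.BrauerRey.Fix
import Cfsg.Agent.Lib.BrauerRey.Det
import Cfsg.Agent.Lib.BrauerRey.Arith
import Cfsg.Agent.Lib.Char.Twist

/-!
# The degrees in the principal block
-/

set_option autoImplicit false

namespace CfsgLib.BrauerRey

open Cfsg CfsgLib.DefectOne
open scoped ComplexConjugate Classical

universe u

variable {G : Type u} [Group G] [Finite G] {p : ℕ} [Fact p.Prime] {z y : G} {e t n : ℕ}
  {X Y : Finset (IrrCharacter G)} {σ : IrrCharacter G → ℤ} {δ : ℤ} {f₀ : ℕ}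

/-- The full list of degrees: `Xp` of degree `1 + n p`, `Xm` of degree `p - 1`. -/
structure Degs (p : ℕ) [Fact p.Prime] (z y : G) (e t n : ℕ) (X Y : Finset (IrrCharacter G))
    (σ : IrrCharacter G → ℤ) (δ : ℤ) (f₀ : ℕ) (w v : ℕ) (Xp Xm : Finset (IrrCharacter G)) :
    Prop where
  num : Num p z y e t n
  blk : Blk p z e t X Y σ δ f₀
  t2 : 2 ≤ t
  hnw : n + 1 = w * t
  w1 : 1 ≤ w
  hv : v + e = w * p
  X_eq : X = insert CfsgLib.Char.principalIrr (Xp ∪ Xm)
  not_mem : CfsgLib.Char.principalIrr ∉ Xp ∪ Xm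
  disjX : Disjoint Xp Xm
  σ_one : σ CfsgLib.Char.principalIrr = 1
  plus : ∀ χ ∈ Xp, σ χ = 1 ∧ deg χ = 1 + n * p
  minus : ∀ χ ∈ Xm, σ χ = -1 ∧ deg χ = e * t
  Xm_ne : Xm.Nonempty

theorem deg_mul (h : Num p z y e t n) {χ : IrrCharacter G} (hd : ¬ p ∣ deg χ) :
    ∃ v, deg χ * v = e * (1 + n * p) := by
  have h1 : deg χ ∣ p * (e * (1 + n * p)) := h.card_eq ▸ deg_dvd χ
  obtain ⟨v, hv⟩ := ((h.ctx.prime.coprime_iff_not_dvd.2 hd).symm).dvd_of_dvd_mul_left h1
  exact ⟨v, hv.symm⟩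

/-- The degrees of the non-principal characters in `X`. -/
theorem degree_X (h : Num p z y e t n) (B : Blk p z e t X Y σ δ f₀) (hn : 2 * n < p + 3)
    {χ : IrrCharacter G} (hχ : χ ∈ X) (hne : χ ≠ CfsgLib.Char.principalIrr) :
    (σ χ = 1 ∧ deg χ = 1 + n * p) ∨ (σ χ = -1 ∧ deg χ = e * t ∧ ∃ w, n + 1 = w * t) := by
  have hpos := deg_pos χ
  have h1 : 1 < deg χ := by
    rcases Nat.lt_or_ge 1 (deg χ) with h1 | h1
    · exact h1
    · exact absurd (eq_principal_of_deg_eq_one h.ctx.perfect (by omega)) hne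
  obtain ⟨v, hv⟩ := deg_mul h (B.not_dvd χ (Finset.mem_union_left _ hχ))
  have hmod := B.mod_X χ hχ
  rcases B.sign χ hχ with hs | hs
  · left
    refine ⟨hs, degree_plus h.het h.he h.ht hn h1 ?_ hv⟩
    rw [hs] at hmod
    have : deg χ ≡ 1 [MOD p] := Int.natCast_modEq_iff.1 (by exact_mod_cast hmod)
    rwa [Nat.ModEq, Nat.mod_eq_of_lt h.ctx.prime.one_lt] at this
  · right
    have hf : (deg χ + 1) % p = 0 := by
      rw [hs] at hmod
      have h2 : ((deg χ + 1 : ℕ) : ℤ) ≡ ((0 : ℕ) : ℤ) [ZMOD p] := by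
        push_cast
        simpa using hmod.add_right 1
      have := Int.natCast_modEq_iff.1 h2
      rwa [Nat.ModEq, Nat.zero_mod] at this
    have hlt : deg χ < p * v := by
      have hsq : deg χ ^ 2 + 1 ≤ Nat.card G := by
        rw [← sum_deg_sq]
        refine le_trans (le_of_eq ?_) (Finset.sum_le_sum_of_subset
          (Finset.subset_univ {χ, CfsgLib.Char.principalIrr}))
        rw [Finset.sum_pair hne, show deg (CfsgLib.Char.principalIrr : IrrCharacter G) = 1 from
          CharTools.charDegree_principal, one_pow]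
      rw [h.card_eq, ← hv] at hsq
      have h3 : deg χ * deg χ < deg χ * (p * v) := by
        rw [show deg χ * (p * v) = p * (deg χ * v) by ring, ← sq]
        omega
      exact Nat.lt_of_mul_lt_mul_left h3
    obtain ⟨h2, w, hw⟩ := degree_minus h.het h.he h.ht hn hf hv hlt
    have := h.het
    exact ⟨hs, by omega, w, hw⟩

theorem σ_principal (h : Num p z y e t n) (B : Blk p z e t X Y σ δ f₀)
    (hX : CfsgLib.Char.principalIrr ∈ X) : σ CfsgLib.Char.principalIrr = 1 := by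
  have h1 := B.val_X _ hX 1 h.ctx.prime.not_dvd_one
  rw [CfsgLib.Char.principalIrr_apply] at h1
  exact_mod_cast h1.symm

theorem deg_principal : deg (CfsgLib.Char.principalIrr : IrrCharacter G) = 1 :=
  CharTools.charDegree_principal

theorem rel_one (h : Num p z y e t n) (B : Blk p z e t X Y σ δ f₀) :
    δ * (f₀ : ℤ) = ∑ χ ∈ X, σ χ * (deg χ : ℤ) := by
  obtain ⟨θ, hθ⟩ := Finset.card_pos.1 (show 0 < Y.card by rw [B.card_Y]; exact h.ht)
  have h1 := B.rel θ hθ 1 (by rw [orderOf_one]; exact h.ctx.prime.not_dvd_one)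
  simp only [← deg_cast, B.deg_Y θ hθ] at h1
  exact_mod_cast h1

theorem mem_Y_dvd (h : Num p z y e t n) (B : Blk p z e t X Y σ δ f₀) :
    f₀ ∣ e * (1 + n * p) := by
  obtain ⟨θ, hθ⟩ := Finset.card_pos.1 (show 0 < Y.card by rw [B.card_Y]; exact h.ht)
  obtain ⟨v, hv⟩ := deg_mul h (B.not_dvd θ (Finset.mem_union_right _ hθ))
  exact ⟨v, by rw [← B.deg_Y θ hθ, hv]⟩

/-- Some character has degree `p - 1`. -/
theorem exists_minus (h : Num p z y e t n) (B : Blk p z e t X Y σ δ f₀) (hn : 2 * n < p + 3) :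
    ∃ χ ∈ X, σ χ = -1 ∧ deg χ = e * t ∧ ∃ w, n + 1 = w * t := by
  by_contra hcon
  push Not at hcon
  have hplus : ∀ χ ∈ X, χ ≠ CfsgLib.Char.principalIrr → σ χ = 1 ∧ deg χ = 1 + n * p := by
    intro χ hχ hne
    rcases degree_X h B hn hχ hne with h1 | ⟨h1, h2, w, h3⟩
    · exact h1
    · exact absurd h3 (hcon χ hχ h1 h2 w)
  have hd := mem_Y_dvd h B
  have hr := rel_one h B
  have he := h.he
  obtain ⟨θ, hθ⟩ := Finset.card_pos.1 (show 0 < Y.card by rw [B.card_Y]; exact h.ht)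
  have hN : p < 1 + n * p := by
    have := Nat.mul_le_mul_right p h.hn
    omega
  have hpe : e < p := by
    have := Nat.mul_le_mul_left e h.ht
    have := h.het
    omega
  rcases Finset.mem_union.1 B.principal with hX | hY
  · rw [← Finset.add_sum_erase _ _ hX, σ_principal h B hX, deg_principal] at hr
    rw [Finset.sum_congr rfl (g := fun _ => ((1 + n * p : ℕ) : ℤ)) (fun χ hχ => by
      obtain ⟨h1, h2⟩ := hplus χ (Finset.mem_erase.1 hχ).2 (Finset.mem_erase.1 hχ).1
      rw [h1, h2, one_mul]), Finset.sum_const, Finset.card_erase_of_mem hX, B.card_X] at hr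
    have hnat : f₀ = 1 + (e - 1) * (1 + n * p) := by
      rcases B.δ_sign with hs | hs <;> rw [hs, nsmul_eq_mul] at hr
      · rw [one_mul, one_mul] at hr
        exact_mod_cast hr
      · exfalso
        have h2 : (0 : ℤ) ≤ ((e - 1 : ℕ) : ℤ) * ((1 + n * p : ℕ) : ℤ) := by positivity
        rw [Nat.cast_one] at hr
        linarith [(Int.natCast_nonneg f₀)]
    have hco : Nat.Coprime f₀ (1 + n * p) := by
      rw [hnat, Nat.coprime_add_mul_right_left]
      exact Nat.coprime_one_left _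
    have h3 := Nat.le_of_dvd (by omega) (hco.dvd_of_dvd_mul_right hd)
    have : 1 + n * p ≤ (e - 1) * (1 + n * p) := Nat.le_mul_of_pos_left _ (by omega)
    omega
  · rw [Finset.sum_congr rfl (g := fun _ => ((1 + n * p : ℕ) : ℤ)) (fun χ hχ => by
      obtain ⟨h1, h2⟩ := hplus χ hχ (fun e1 => Finset.disjoint_left.1 B.disj hχ (e1 ▸ hY))
      rw [h1, h2, one_mul]), Finset.sum_const, B.card_X, nsmul_eq_mul,
      ← B.deg_Y _ hY, deg_principal, Nat.cast_one, mul_one] at hr
    have h2 : (2 : ℤ) * 2 ≤ (e : ℤ) * ((1 + n * p : ℕ) : ℤ) := by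
      have : 2 * 2 ≤ e * (1 + n * p) :=
        Nat.mul_le_mul he (le_trans h.ctx.prime.two_le hN.le)
      exact_mod_cast this
    rcases B.δ_sign with hs | hs <;> omega

/-- A character of degree `p - 1` vanishes on the complement. -/
theorem minus_vanish (h : Num p z y e t n) (B : Blk p z e t X Y σ δ f₀) {χ : IrrCharacter G}
    (hχ : χ ∈ X) (hs : σ χ = -1) (hd : deg χ = e * t) {q : G} (hq : q ∈ Subgroup.zpowers y)
    (hq1 : q ≠ 1) : (χ : G → ℂ) q = 0 := by
  obtain ⟨L, hL, hLq, hL1⟩ := h.exists_fix χ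
  have h0 : L 1 = 0 := by
    have hr : ∀ r : (ZMod p)ˣ, (χ : G → ℂ) (z ^ (r : ZMod p).val) = -1 := fun r => by
      rw [B.val_X χ hχ _ (fun hdv => r.ne_zero (by
        have := Nat.eq_zero_of_dvd_of_lt hdv (ZMod.val_lt _)
        exact (ZMod.val_eq_zero _).1 this)), hs]
      simp
    rw [Finset.sum_congr rfl fun r _ => hr r, Finset.sum_const, Finset.card_univ, ZMod.card_units,
      nsmul_eq_mul, ← deg_cast, hd, show p - 1 = e * t by have := h.het; omega] at hL1
    have : (p : ℂ) * L 1 = 0 := by rw [hL1]; ring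
    exact (mul_eq_zero.1 this).resolve_left (Nat.cast_ne_zero.2 h.ctx.prime.ne_zero)
  have hle := CfsgLib.Char.IsCharacter.norm_apply_le hL ⟨q, hq⟩
  rw [show CfsgLib.Char.degree L = 0 by simp [CfsgLib.Char.degree, h0], Nat.cast_zero,
    norm_le_zero_iff, hLq _ (fun e1 => hq1 (congrArg Subtype.val e1))] at hle
  exact hle

theorem even_parity (h : Num p z y e t n) (B : Blk p z e t X Y σ δ f₀) {χ : IrrCharacter G}
    (hχ : χ ∈ X) (hs : σ χ = -1) (hd : deg χ = e * t) : Even ((e - 1) * t) := by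
  obtain ⟨N, ρ, hρ, hχρ⟩ := χ.2
  have hN : N = e * t := by
    have h1 : (deg χ : ℂ) = (N : ℂ) := by
      rw [deg_cast, ← hχρ, Representation.char_one, Module.finrank_fin_fun]
    rw [← hd, Nat.cast_injective h1]
  refine even_of_regular h.ctx.perfect ρ h.orderOf_y (k := t)
    (by rw [Module.finrank_fin_fun, hN, mul_comm]) fun j hj => ?_
  rw [hχρ]
  refine minus_vanish h B hχ hs hd (Subgroup.npow_mem_zpowers y j) fun hq1 => hj ?_
  rw [← h.orderOf_y]
  exact orderOf_dvd_of_pow_eq_one hq1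

theorem exists_degs (h : Num p z y e t n) (B : Blk p z e t X Y σ δ f₀) (hn : 2 * n < p + 3) :
    ∃ w v Xp Xm, Degs p z y e t n X Y σ δ f₀ w v Xp Xm := by
  obtain ⟨χ, hχ, hs, hd, w, hw⟩ := exists_minus h B hn
  have ht2 : 2 ≤ t := by
    by_contra hlt
    have ht1 : t = 1 := by have := h.ht; omega
    have h1 := even_parity h B hχ hs hd
    rw [ht1, mul_one] at h1
    have he2 : Even e := by
      have h2 : Odd p := h.ctx.prime.odd_of_ne_two (by have := h.p_odd; omega)
      have := h.het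
      rw [ht1, mul_one] at this
      rwa [← this, Nat.odd_add_one, Nat.not_odd_iff_even] at h2
    rw [Nat.even_sub (by have := h.he; omega)] at h1
    exact Nat.not_even_one (h1.1 he2)
  have hX := B.principal_X ht2
  have hσ1 := σ_principal h B hX
  have hw1 : 1 ≤ w := by
    rcases Nat.eq_zero_or_pos w with e1 | e1
    · rw [e1, zero_mul] at hw; omega
    · exact e1
  have hep : e ≤ w * p := by
    have h1 := Nat.mul_le_mul_right p hw1
    have h2 := Nat.mul_le_mul_left e h.ht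
    have := h.het
    omega
  refine ⟨w, w * p - e,
    (X.erase CfsgLib.Char.principalIrr).filter (fun a => σ a = 1),
    (X.erase CfsgLib.Char.principalIrr).filter (fun a => ¬σ a = 1),
    h, B, ht2, hw, hw1, by omega, ?_, ?_, ?_, hσ1, ?_, ?_, ⟨χ, ?_⟩⟩
  · rw [Finset.filter_union_filter_not_eq, Finset.insert_erase hX]
  · simp
  · exact Finset.disjoint_filter_filter_not _ _ _
  · intro a ha
    obtain ⟨h1, h2⟩ := Finset.mem_filter.1 ha
    rcases degree_X h B hn (Finset.mem_erase.1 h1).2 (Finset.mem_erase.1 h1).1 with h3 | h3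
    · exact h3
    · rw [h3.1] at h2; norm_num at h2
  · intro a ha
    obtain ⟨h1, h2⟩ := Finset.mem_filter.1 ha
    rcases degree_X h B hn (Finset.mem_erase.1 h1).2 (Finset.mem_erase.1 h1).1 with h3 | h3
    · exact absurd h3.1 h2
    · exact ⟨h3.1, h3.2.1⟩
  · refine Finset.mem_filter.2 ⟨Finset.mem_erase.2 ⟨fun e1 => ?_, hχ⟩, by rw [hs]; norm_num⟩
    rw [e1, hσ1] at hs; norm_num at hs

namespace Degs

variable {w v : ℕ} {Xp Xm : Finset (IrrCharacter G)}
  (D : Degs p z y e t n X Y σ δ f₀ w v Xp Xm)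

include D

theorem card_add : Xp.card + Xm.card + 1 = e := by
  rw [← D.blk.card_X, D.X_eq, Finset.card_insert_of_notMem D.not_mem,
    Finset.card_union_of_disjoint D.disjX]

theorem N_eq : 1 + n * p = t * v := by
  have h1 : 1 + n * p + e * t = t * v + e * t := by
    calc 1 + n * p + e * t = (n + 1) * p := by rw [← D.num.het]; ring
      _ = t * (v + e) := by rw [D.hnw, D.hv]; ring
      _ = _ := by ring
  omega

theorem v_pos : 0 < v := by
  rcases Nat.eq_zero_or_pos v with h | h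
  · have := D.N_eq; rw [h, mul_zero] at this; omega
  · exact h

/-- A sum over `X` weighted by the signs. -/
theorem sum_X (F : IrrCharacter G → ℂ) :
    ∑ χ ∈ X, (σ χ : ℂ) * F χ =
      F CfsgLib.Char.principalIrr + (∑ χ ∈ Xp, F χ) - ∑ χ ∈ Xm, F χ := by
  rw [D.X_eq, Finset.sum_insert D.not_mem, Finset.sum_union D.disjX, D.σ_one,
    Finset.sum_congr rfl (g := fun χ => F χ) (fun χ hχ => by rw [(D.plus χ hχ).1]; simp),
    Finset.sum_congr rfl (g := fun χ => -F χ) (s₁ := Xm) (fun χ hχ => by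
      rw [(D.minus χ hχ).1]; simp), Finset.sum_neg_distrib]
  push_cast
  ring

theorem relation {θ : IrrCharacter G} (hθ : θ ∈ Y) {g : G} (hg : ¬ p ∣ orderOf g) :
    (δ : ℂ) * (θ : G → ℂ) g =
      1 + (∑ χ ∈ Xp, (χ : G → ℂ) g) - ∑ χ ∈ Xm, (χ : G → ℂ) g := by
  rw [D.blk.rel θ hθ g hg, D.sum_X, CfsgLib.Char.principalIrr_apply]

theorem degree_relation :
    δ * (f₀ : ℤ) = 1 + (Xp.card : ℤ) * (1 + n * p : ℕ) - (Xm.card : ℤ) * (e * t : ℕ) := by
  rw [rel_one D.num D.blk, D.X_eq, Finset.sum_insert D.not_mem, Finset.sum_union D.disjX,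
    D.σ_one, deg_principal,
    Finset.sum_congr rfl (g := fun _ => ((1 + n * p : ℕ) : ℤ)) (fun χ hχ => by
      rw [(D.plus χ hχ).1, (D.plus χ hχ).2, one_mul]),
    Finset.sum_congr rfl (g := fun _ => -((e * t : ℕ) : ℤ)) (s₁ := Xm) (fun χ hχ => by
      rw [(D.minus χ hχ).1, (D.minus χ hχ).2, neg_one_mul]),
    Finset.sum_const, Finset.sum_const, nsmul_eq_mul, nsmul_eq_mul]
  push_cast
  ring

/-- The exceptional degree is `e` or `v`. -/
theorem exc_cases (hn : 2 * n < p + 3) :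
    (δ = 1 ∧ f₀ = e ∧ Xp.card * (n + 1) + 1 = e) ∨
      (δ = -1 ∧ f₀ = v ∧ w * (1 + Xp.card * t) + 1 = e) := by
  have hr := D.degree_relation
  have hN := D.N_eq
  have hab := D.card_add
  obtain ⟨θ, hθ⟩ := Finset.card_pos.1 (show 0 < Y.card by rw [D.blk.card_Y]; exact D.num.ht)
  have hf0 : 0 < f₀ := D.blk.deg_Y θ hθ ▸ deg_pos θ
  have hd := mem_Y_dvd D.num D.blk
  rw [hN] at hd
  have hco : IsCoprime (f₀ : ℤ) (t : ℤ) := by
    refine ⟨δ, (Xm.card : ℤ) * e - (Xp.card : ℤ) * v, ?_⟩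
    rw [hN] at hr
    push_cast at hr
    linear_combination hr
  have hdev : (f₀ : ℤ) ∣ (e : ℤ) * v := by
    refine hco.dvd_of_dvd_mul_left ?_
    have h1 : f₀ ∣ t * (e * v) := by
      rwa [show t * (e * v) = e * (t * v) by ring]
    exact_mod_cast h1
  obtain ⟨c, hc⟩ := hdev
  have hep : IsCoprime (e : ℤ) (p : ℤ) :=
    ((D.num.ctx.prime.coprime_iff_not_dvd.2 D.num.hep).symm).isCoprime
  have hp' : (e : ℤ) * t + 1 = p := by exact_mod_cast D.num.het
  have hnw' : (n : ℤ) + 1 = (w : ℤ) * t := by exact_mod_cast D.hnw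
  have hv' : (v : ℤ) + e = (w : ℤ) * p := by exact_mod_cast D.hv
  have hab' : (Xp.card : ℤ) + Xm.card + 1 = e := by exact_mod_cast hab
  push_cast at hr
  rcases degree_exc hp' (by exact_mod_cast D.num.he) (by exact_mod_cast D.t2)
      (by exact_mod_cast D.w1) hnw' (by exact_mod_cast hn) hv'
      (by exact_mod_cast hf0) D.blk.δ_sign (Int.ModEq.dvd D.blk.mod_Y.symm) hc.symm hep with
    ⟨hs, hf⟩ | ⟨hs, hf⟩
  · refine Or.inl ⟨hs, by exact_mod_cast hf, ?_⟩
    rw [hs, hf, one_mul] at hr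
    have h2 : ((Xp.card : ℤ) * ((n : ℤ) + 1) + 1) * p = (e : ℤ) * p := by
      linear_combination -hr - ((Xp.card : ℤ) + 1 - e) * hp' + (e : ℤ) * t * hab'
    have h3 := mul_right_cancel₀ (show (p : ℤ) ≠ 0 by exact_mod_cast D.num.ctx.prime.ne_zero) h2
    exact_mod_cast h3
  · refine Or.inr ⟨hs, by exact_mod_cast hf, ?_⟩
    rw [hs, hf] at hr
    have h2 : ((w : ℤ) * (1 + (Xp.card : ℤ) * t) + 1) * p = (e : ℤ) * p := by
      linear_combination -hr - hv' - (Xp.card : ℤ) * p * hnw' -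
        ((Xp.card : ℤ) + 1 - e) * hp' + (e : ℤ) * t * hab'
    have h3 := mul_right_cancel₀ (show (p : ℤ) ≠ 0 by exact_mod_cast D.num.ctx.prime.ne_zero) h2
    exact_mod_cast h3

/-- The exceptional degree `e` only occurs for `PSL₂(p)`. -/
theorem n_eq_one_of_plus (hδ : δ = 1) (hf : f₀ = e) : n = 1 ∧ t = 2 := by
  cases nonempty_fintype G
  have hH := D.num.ctx.hyp
  obtain ⟨θ, hθ⟩ := Finset.card_pos.1 (show 0 < Y.card by rw [D.blk.card_Y]; exact D.num.ht)
  set Φ : G → ℂ := (θ : G → ℂ) * fun g => conj ((θ : G → ℂ) g) with hΦ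
  have hchar : IsCharacter G Φ := CfsgLib.Char.IsCharacter.mul
    (CfsgLib.Char.IsIrrCharacter.isCharacter θ.2)
    (CfsgLib.Char.IsIrrCharacter.isCharacter (CfsgLib.CharTwist.isIrrCharacter_conj θ.2))
  obtain ⟨c, hc⟩ := CfsgLib.Char.IsCharacter.exists_nat_combination hchar
  have hΦg : ∀ g, (θ : G → ℂ) g * conj ((θ : G → ℂ) g) =
      ∑ χ : IrrCharacter G, (c χ : ℂ) * (χ : G → ℂ) g := fun g => by
    have h1 := congrFun hc g
    simpa [hΦ] using h1
  have hc1 : c CfsgLib.Char.principalIrr = 1 := by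
    have h1 : classInner Φ (CfsgLib.Char.principalIrr : IrrCharacter G) =
        classInner (θ : G → ℂ) θ := by
      simp [classInner, hΦ]
    rw [hc, CfsgLib.Char.classInner_sum_smul_irr, CfsgLib.Char.classInner_irr_self θ.2] at h1
    exact_mod_cast h1
  -- the degrees
  have hdeg : 1 + (∑ χ ∈ Xp, c χ) * (1 + n * p) ≤ e * e := by
    have h1 : ∑ χ : IrrCharacter G, c χ * deg χ = e * e := by
      refine Nat.cast_injective (R := ℂ) ?_
      push_cast
      simp only [deg_cast]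
      rw [← hΦg 1, ← deg_cast, map_natCast, D.blk.deg_Y θ hθ, hf]
    rw [← h1, Finset.sum_mul, Finset.sum_congr rfl (g := fun χ => c χ * deg χ)
      (fun χ hχ => by rw [(D.plus χ hχ).2])]
    calc 1 + ∑ χ ∈ Xp, c χ * deg χ
        = ∑ χ ∈ Finset.cons CfsgLib.Char.principalIrr Xp
            (fun h => D.not_mem (by simp [h])), c χ * deg χ := by
          rw [Finset.sum_cons, hc1, deg_principal, one_mul]
      _ ≤ _ := Finset.sum_le_sum_of_subset (Finset.subset_univ _)
  -- the values at the powers of `z`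
  have hval : ∀ r : (ZMod p)ˣ, ¬ p ∣ (r : ZMod p).val := fun r hdv =>
    r.ne_zero ((ZMod.val_eq_zero _).1 (Nat.eq_zero_of_dvd_of_lt hdv (ZMod.val_lt _)))
  set S : IrrCharacter G → ℂ := fun χ =>
    ∑ r : (ZMod p)ˣ, (χ : G → ℂ) (z ^ (r : ZMod p).val) * conj ((χ : G → ℂ) (z ^ (r : ZMod p).val))
  have hSθ : S θ = (e : ℂ) * ((p : ℂ) - e) := by
    have h1 : ∀ θ' ∈ Y, S θ' = S θ := fun θ' hθ' => by
      obtain ⟨k, hk⟩ := D.blk.perm θ hθ θ' hθ'
      simp only [S, hk]
      exact Fintype.sum_equiv (Equiv.mulRight k) _ _ fun r => rfl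
    have h2 : ∀ r : (ZMod p)ˣ, ∑ θ' ∈ Y, (θ' : G → ℂ) (z ^ (r : ZMod p).val) *
        conj ((θ' : G → ℂ) (z ^ (r : ZMod p).val)) = (p : ℂ) - e := by
      intro r
      have h3 := CfsgLib.Char.sum_mul_conj (z ^ (r : ZMod p).val) (z ^ (r : ZMod p).val)
      rw [if_pos (IsConj.refl _), D.blk.column D.num (hval r)] at h3
      have h4 : Subgroup.centralizer ({z ^ (r : ZMod p).val} : Set G) = cent z := by
        ext g
        rw [mem_cent_iff, Subgroup.mem_centralizer_singleton_iff]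
        exact ⟨fun hg => hH.commute_of_commute_pow (hval r) hg,
          fun hg => (Commute.pow_right hg _).eq⟩
      rw [h4, D.num.ctx.cent_card, Finset.sum_congr rfl (g := fun _ => (1 : ℂ)) (fun χ hχ => by
        rw [D.blk.val_X χ hχ _ (hval r)]
        rcases D.blk.sign χ hχ with e1 | e1 <;> rw [e1] <;> simp), Finset.sum_const,
        D.blk.card_X, nsmul_eq_mul, mul_one] at h3
      linear_combination h3
    have h5 : (t : ℂ) * S θ = (t : ℂ) * ((e : ℂ) * ((p : ℂ) - e)) := by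
      have h6 : ∑ θ' ∈ Y, S θ' = (((p - 1 : ℕ) : ℂ)) * ((p : ℂ) - e) := by
        simp only [S]
        rw [Finset.sum_comm, Finset.sum_congr rfl fun r _ => h2 r, Finset.sum_const,
          Finset.card_univ, ZMod.card_units, nsmul_eq_mul]
      rw [Finset.sum_congr rfl h1, Finset.sum_const, D.blk.card_Y, nsmul_eq_mul,
        show p - 1 = e * t by have := D.num.het; omega, Nat.cast_mul] at h6
      linear_combination h6
    exact mul_left_cancel₀ (Nat.cast_ne_zero.2 (by have := D.t2; omega)) h5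
  have hmain : (p : ℤ) - e = t * (1 + (∑ χ ∈ Xp, c χ : ℕ) - (∑ χ ∈ Xm, c χ : ℕ))
      - (∑ θ' ∈ Y, c θ' : ℕ) := by
    refine Int.cast_injective (α := ℂ) (mul_left_cancel₀
      (Nat.cast_ne_zero.2 (show e ≠ 0 by have := D.num.he; omega)) ?_)
    push_cast
    rw [← hSθ]
    calc S θ = ∑ r : (ZMod p)ˣ, ∑ χ : IrrCharacter G,
          (χ : G → ℂ) (z ^ (r : ZMod p).val) * (c χ : ℂ) := by
          refine Finset.sum_congr rfl fun r _ => ?_
          rw [hΦg]
          exact Finset.sum_congr rfl fun χ _ => mul_comm _ _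
      _ = ∑ r : (ZMod p)ˣ, ((1 + ∑ χ ∈ Xp, (c χ : ℂ)) - ∑ χ ∈ Xm, (c χ : ℂ) +
          ∑ θ' ∈ Y, (θ' : G → ℂ) (z ^ (r : ZMod p).val) * (c θ' : ℂ)) := by
          refine Finset.sum_congr rfl fun r _ => ?_
          rw [D.blk.column D.num (hval r), D.sum_X, hc1, Nat.cast_one]
      _ = _ := by
          rw [Finset.sum_add_distrib, Finset.sum_const, Finset.card_univ, ZMod.card_units,
            Finset.sum_comm, show p - 1 = e * t by have := D.num.het; omega, nsmul_eq_mul]
          simp only [← Finset.sum_mul]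
          rw [Finset.sum_congr (s₁ := Y) rfl fun θ' hθ' => by rw [D.blk.sum_pow θ' hθ', hδ],
            ← Finset.mul_sum]
          push_cast
          ring
  set x := ∑ χ ∈ Xp, c χ
  have he2 := D.num.he
  have ht2 := D.t2
  have hx : (e - 1) * (t - 1) ≤ t * x := by
    obtain ⟨e', rfl⟩ : ∃ e', e = e' + 1 := ⟨e - 1, by omega⟩
    obtain ⟨t', rfl⟩ : ∃ t', t = t' + 1 := ⟨t - 1, by omega⟩
    rw [Nat.add_sub_cancel, Nat.add_sub_cancel]
    have h7 : ((p : ℕ) : ℤ) = ((e' + 1 : ℕ) : ℤ) * ((t' + 1 : ℕ) : ℤ) + 1 := by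
      exact_mod_cast D.num.het.symm
    generalize (∑ χ ∈ Xm, c χ) = y₁ at hmain
    generalize (∑ θ' ∈ Y, c θ') = R at hmain
    have h9 : (e' : ℤ) * t' ≤ ((t' + 1 : ℕ) : ℤ) * x := by
      have h8 : (0 : ℤ) ≤ ((t' + 1 : ℕ) : ℤ) * (y₁ : ℤ) := by positivity
      have h8' : (0 : ℤ) ≤ (R : ℤ) := Int.natCast_nonneg R
      push_cast at h7 h8 hmain ⊢
      nlinarith
    exact_mod_cast h9
  rw [D.N_eq] at hdeg
  have h10 : (e - 1) * (t - 1) * v ≤ (e - 1) * (e + 1) := by
    have h11 : (e - 1) * (e + 1) + 1 = e * e := by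
      obtain ⟨e', rfl⟩ : ∃ e', e = e' + 1 := ⟨e - 1, by omega⟩
      rw [Nat.add_sub_cancel]; ring
    have h12 := Nat.mul_le_mul_right v hx
    rw [show t * x * v = x * (t * v) by ring] at h12
    omega
  have h13 : (t - 1) * v ≤ e + 1 :=
    Nat.le_of_mul_le_mul_left (show (e - 1) * ((t - 1) * v) ≤ (e - 1) * (e + 1) by
      rw [← mul_assoc]; exact h10) (by omega)
  have hp := D.num.het
  have hv := D.hv
  have hnw := D.hnw
  have ht : t = 2 := by
    by_contra hne
    have h14 : 2 * v ≤ (t - 1) * v := Nat.mul_le_mul_right v (by omega)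
    have h15 : e * 3 ≤ e * t := Nat.mul_le_mul_left e (by omega)
    have h16 := Nat.mul_le_mul_right p D.w1
    omega
  subst ht
  have hw : w = 1 := by
    by_contra hne
    have h16 : 2 * p ≤ w * p := Nat.mul_le_mul_right p (by have := D.w1; omega)
    omega
  subst hw
  omega

end Degs

end CfsgLib.BrauerRey
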