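import Cfsg.Agent.Lib.BrauerRey.Blocks
import Cfsg.Agent.Lib.Char.Kernel
import Mathlib.LinearAlgebra.PID

/-!
# The action of the complement on the fixed points of `⟨z⟩`
-/

set_option autoImplicit false

namespace CfsgLib.BrauerRey

open Cfsg CfsgLib.DefectOne
open scoped ComplexConjugate Classical

universe u

variable {G : Type u} [Group G] [Finite G] {p : ℕ} [Fact p.Prime] {z : G}

/-- The sum of a function over the powers of `z` is the value at one plus the sum over the units. -/
theorem sum_zpowers {y : G} {e t n : ℕ} (h : Num p z y e t n) (f : G → ℂ)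
    [Fintype (Subgroup.zpowers z)] :
    ∑ x : Subgroup.zpowers z, f x = f 1 + ∑ r : (ZMod p)ˣ, f (z ^ (r : ZMod p).val) := by
  have hH := h.ctx.hyp
  have hb : Function.Bijective (fun a : ZMod p =>
      (⟨z ^ a.val, pow_mem (Subgroup.mem_zpowers z) _⟩ : Subgroup.zpowers z)) := by
    rw [Nat.bijective_iff_injective_and_card]
    refine ⟨fun a b hab => ?_, by rw [Nat.card_zmod, h.ctx.card_zpowers]⟩
    have h1 : z ^ a.val = z ^ b.val := congrArg Subtype.val hab
    have h2 := hH.pow_eq_pow_iff.1 h1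
    rw [Nat.mod_eq_of_lt (ZMod.val_lt a), Nat.mod_eq_of_lt (ZMod.val_lt b)] at h2
    exact ZMod.val_injective p h2
  rw [← (Equiv.ofBijective _ hb).sum_comp, ← Finset.add_sum_erase _ _ (Finset.mem_univ (0 : ZMod p))]
  congr 1
  · simp
  · refine (Finset.sum_bij (fun (r : (ZMod p)ˣ) _ => (r : ZMod p)) (fun r _ => ?_) (fun a _ b _ e => Units.ext e)
      (fun a ha => ?_) fun r _ => rfl).symm
    · exact Finset.mem_erase.2 ⟨r.ne_zero, Finset.mem_univ _⟩
    · exact ⟨Units.mk0 a (Finset.mem_erase.1 ha).1, Finset.mem_univ _, rfl⟩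

theorem Num.exists_fix {y : G} {e t n : ℕ} (h : Num p z y e t n) (χ : IrrCharacter G) :
    ∃ L : Subgroup.zpowers y → ℂ, IsCharacter (Subgroup.zpowers y) L ∧
      (∀ q : Subgroup.zpowers y, q ≠ 1 → L q = (χ : G → ℂ) (q : G)) ∧
      (p : ℂ) * L 1 = (χ : G → ℂ) 1 + ∑ r : (ZMod p)ˣ, (χ : G → ℂ) (z ^ (r : ZMod p).val) := by
  haveI := Fintype.ofFinite (Subgroup.zpowers z)
  obtain ⟨N, ρ, hρ, hχρ⟩ := χ.2
  have hp0 : (p : ℂ) ≠ 0 := Nat.cast_ne_zero.2 h.ctx.prime.ne_zero
  have hcard : (Fintype.card (Subgroup.zpowers z) : ℂ) = p := by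
    rw [← Nat.card_eq_fintype_card, h.ctx.card_zpowers]
  set W := CfsgLib.CharKernel.fixedSpace ρ (Subgroup.zpowers z) with hW
  set E : Module.End ℂ (Fin N → ℂ) := (p : ℂ)⁻¹ • ∑ x : Subgroup.zpowers z, ρ x with hE
  have hproj : LinearMap.IsProj W E := by
    constructor
    · intro v
      rw [hW, CfsgLib.CharKernel.mem_fixedSpace]
      intro a ha
      rw [hE, LinearMap.smul_apply, LinearMap.sum_apply, map_smul, map_sum]
      congr 1
      refine Fintype.sum_equiv (Equiv.mulLeft ⟨a, ha⟩) _ _ fun x => ?_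
      rw [← Module.End.mul_apply, ← map_mul]
      rfl
    · intro v hv
      rw [hW, CfsgLib.CharKernel.mem_fixedSpace] at hv
      rw [hE, LinearMap.smul_apply, LinearMap.sum_apply,
        Finset.sum_congr rfl fun (x : Subgroup.zpowers z) _ => hv (x : G) x.2, Finset.sum_const, Finset.card_univ,
        ← Nat.cast_smul_eq_nsmul ℂ, hcard, smul_smul, inv_mul_cancel₀ hp0, one_smul]
  have hinv : ∀ q : Subgroup.zpowers y, ∀ v ∈ W, ρ (q : G) v ∈ W := by
    intro q v hv
    rw [hW, CfsgLib.CharKernel.mem_fixedSpace] at hv ⊢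
    intro a ha
    have h1 : (q : G)⁻¹ * a * q ∈ Subgroup.zpowers z := by
      simpa using (Subgroup.mem_normalizer_iff.1 (inv_mem (h.mem_norm q.2)) a).1 ha
    have h2 := congrArg (ρ (q : G)) (hv _ h1)
    rw [← Module.End.mul_apply, ← map_mul] at h2
    rw [← Module.End.mul_apply, ← map_mul]
    rwa [show (q : G) * ((q : G)⁻¹ * a * q) = a * q by group] at h2
  let τ : Representation ℂ (Subgroup.zpowers y) W :=
    Representation.subrepresentation (ρ.comp (Subgroup.zpowers y).subtype) W
      fun q v hv => hinv q v hv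
  refine ⟨τ.character, CfsgLib.Char.isCharacter_character τ, fun q hq => ?_, ?_⟩
  · have hq1 : (q : G) ≠ 1 := fun e1 => hq (Subtype.ext e1)
    -- the trace on the fixed points
    have h1 : LinearMap.trace ℂ _ (ρ (q : G) * E) = (χ : G → ℂ) (q : G) := by
      rw [hE, mul_smul_comm, map_smul, Finset.mul_sum, map_sum]
      have h2 : ∀ x : Subgroup.zpowers z,
          LinearMap.trace ℂ _ (ρ (q : G) * ρ (x : G)) = (χ : G → ℂ) (q : G) := fun x => by
        rw [← map_mul, ← hχρ]
        show ρ.character ((q : G) * x) = ρ.character (q : G)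
        rw [Representation.char_mul_comm]
        exact (CfsgLib.Char.IsClassFunction.eq_of_isConj (fun a b => ρ.char_conj a b)
          (h.isConj_mul q.2 hq1 x.2)).symm
      rw [Finset.sum_congr rfl fun x _ => h2 x, Finset.sum_const, Finset.card_univ, nsmul_eq_mul,
        hcard, smul_eq_mul, ← mul_assoc, inv_mul_cancel₀ hp0, one_mul]
    have hmem : ∀ v, (ρ (q : G) * E) v ∈ W := fun v => hinv q _ (hproj.map_mem v)
    rw [← h1, ← LinearMap.trace_restrict_eq_of_forall_mem W _ hmem (fun v _ => hmem v)]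
    show LinearMap.trace ℂ W _ = LinearMap.trace ℂ W _
    congr 1
    refine LinearMap.ext fun v => Subtype.ext ?_
    show ρ (q : G) v = ρ (q : G) (E v)
    rw [hproj.map_id v v.2]
  · rw [Representation.char_one, ← hproj.trace, ← sum_zpowers h, ← hχρ, hE, map_smul, map_sum,
      smul_eq_mul, ← mul_assoc, mul_inv_cancel₀ hp0, one_mul]
    rfl

end CfsgLib.BrauerRey
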