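import Mathlib.Tactic.Linarith
import Mathlib.Tactic.Ring
import Mathlib.Data.Nat.ModEq
import Mathlib.RingTheory.Coprime.Lemmas
import Mathlib.Tactic.IntervalCases

/-!
# Degrees when the cofactor is small
-/

set_option autoImplicit false

namespace CfsgLib.BrauerRey

theorem small_plus {p E n f v : ℕ} (hE : E * n < p) (hn : 1 ≤ n) (hE0 : 0 < E) (hf1 : 1 < f)
    (hf : f % p = 1) (hv : f * v = E * (1 + n * p)) : f = 1 + n * p := by
  have hEp : E < p := lt_of_le_of_lt (Nat.le_mul_of_pos_right E hn) hE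
  have hvm : v % p = E := by
    have h := congrArg (· % p) hv
    simp only [Nat.mul_mod f v, hf, one_mul, Nat.mod_mod, mul_add, mul_one] at h
    rw [h, ← mul_assoc, Nat.add_mul_mod_self_right, Nat.mod_eq_of_lt hEp]
  obtain ⟨u, hfu⟩ : ∃ u, f = u * p + 1 :=
    ⟨f / p, by have := Nat.div_add_mod' f p; rw [hf] at this; exact this.symm⟩
  obtain ⟨w, hvw⟩ : ∃ w, v = w * p + E :=
    ⟨v / p, by have := Nat.div_add_mod' v p; rw [hvm] at this; exact this.symm⟩
  have hkey : u * E + w + u * w * p = E * n := by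
    refine Nat.eq_of_mul_eq_mul_left (show 0 < p by omega) (Nat.add_left_cancel (n := E) ?_)
    rw [hfu, hvw] at hv
    calc E + p * (u * E + w + u * w * p) = (u * p + 1) * (w * p + E) := by ring
      _ = E + p * (E * n) := by rw [hv]; ring
  rcases Nat.eq_zero_or_pos w with rfl | hw0
  · have : u = n := Nat.eq_of_mul_eq_mul_left hE0 (by rw [← hkey]; ring)
    rw [hfu, this, add_comm]
  · exfalso
    have hu0 : 1 ≤ u := by
      rcases Nat.eq_zero_or_pos u with rfl | h
      · rw [zero_mul] at hfu; omega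
      · exact h
    have : p ≤ u * w * p := Nat.le_mul_of_pos_left p (Nat.mul_pos hu0 hw0)
    omega

theorem small_minus {p E n f v : ℕ} (hE : E * n < p) (hn : 2 ≤ n) (hE0 : 0 < E)
    (hf : (f + 1) % p = 0) (hv : f * v = E * (1 + n * p)) : f + 1 = p := by
  have h2E : 2 * E + 1 ≤ p := by
    have := Nat.mul_le_mul_left E hn
    omega
  obtain ⟨u, hu⟩ := Nat.dvd_of_mod_eq_zero hf
  obtain ⟨w, hw⟩ : p ∣ v + E := by
    have h3 : p * (u * v) = (v + E) + p * (E * n) := by
      calc p * (u * v) = (f + 1) * v := by rw [hu]; ring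
        _ = _ := by rw [add_mul, hv]; ring
    exact (Nat.dvd_add_left ⟨E * n, rfl⟩).1 ⟨u * v, h3.symm⟩
  have hw0 : 1 ≤ w := by
    rcases Nat.eq_zero_or_pos w with h | h
    · rw [h, mul_zero] at hw; omega
    · exact h
  have hkey : u * w * p = E * n + u * E + w := by
    refine Nat.eq_of_mul_eq_mul_left (show 0 < p by omega) ?_
    calc p * (u * w * p) = p * u * (p * w) := by ring
      _ = (f + 1) * (v + E) := by rw [hu, hw]
      _ = f * v + (f + 1) * E + v := by ring
      _ = E * (1 + n * p) + p * u * E + v := by rw [hv, hu]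
      _ = p * (E * n + u * E) + (v + E) := by ring
      _ = _ := by rw [hw]; ring
  rcases Nat.lt_or_ge u 2 with hu2 | hu2
  · interval_cases u
    · rw [mul_zero] at hu; omega
    · omega
  · exfalso
    have h1 : u * (2 * E + 1) ≤ u * p := Nat.mul_le_mul_left u h2E
    have h2 : u * 1 * p ≤ u * w * p := Nat.mul_le_mul_right p (Nat.mul_le_mul_left u hw0)
    have h3 : 2 * w * p ≤ u * w * p := Nat.mul_le_mul_right p (Nat.mul_le_mul_right w hu2)
    have h4 : 2 * w * 3 ≤ 2 * w * p := Nat.mul_le_mul_left _ (by omega)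
    nlinarith

end CfsgLib.BrauerRey
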