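import Cfsg.Agent.Lib.BrauerRey.Setup
import Cfsg.Agent.Lib.PrimePlusOne.Main

/-!
# The case of `p + 1` Sylow subgroups
-/

set_option autoImplicit false

namespace CfsgLib.BrauerRey

open Cfsg CfsgLib.DefectOne
open scoped Classical commutatorElement

theorem ringEquiv_comm {K : Type*} [Field K] [Finite K] (φ ψ : K ≃+* K) (x : K) :
    φ (ψ x) = ψ (φ x) := by
  rcases eq_or_ne x 0 with rfl | hx
  · simp
  obtain ⟨i, hi⟩ := MonoidHom.map_cyclic (Units.map (φ : K →* K))
  obtain ⟨j, hj⟩ := MonoidHom.map_cyclic (Units.map (ψ : K →* K))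
  have h : Units.map (φ : K →* K) (Units.map (ψ : K →* K) (Units.mk0 x hx)) =
      Units.map (ψ : K →* K) (Units.map (φ : K →* K) (Units.mk0 x hx)) := by
    rw [hj (Units.mk0 x hx), map_zpow, hi (Units.mk0 x hx), map_zpow, hj (Units.mk0 x hx),
      ← zpow_mul, ← zpow_mul, mul_comm]
  exact congrArg Units.val h

theorem semiaffine_eq {K : Type*} [Field K] {a a' : K} {b b' : K} {φ φ' : K ≃+* K} (ha : a ≠ 0)
    (h : ∀ x, a * φ x + b = a' * φ' x + b') : a = a' ∧ ∀ x, φ x = φ' x := by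
  have h0 : b = b' := by simpa using h 0
  subst h0
  obtain rfl : a = a' := by simpa using h 1
  exact ⟨rfl, fun x => mul_left_cancel₀ ha (add_right_cancel (h x))⟩

/-- A perfect group of semi-affine maps of a finite field is trivial. -/
theorem semiaffine_perfect {H : Type*} [Group H] (hperf : commutator H = ⊤) {K : Type*} [Field K]
    [Finite K] (f : H →* Equiv.Perm K) (hf : ∀ h, f h ∈ semiaffineGroup K) (g : H) : f g = 1 := by
  have key : ∀ (S : Subgroup (Equiv.Perm K)), (∀ a b : H, f ⁅a, b⁆ ∈ S) → ∀ h, f h ∈ S := by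
    intro S hS h
    have hle : commutator H ≤ S.comap f :=
      Subgroup.commutator_le.2 fun a _ b _ => hS a b
    exact hle (hperf.symm ▸ Subgroup.mem_top h)
  -- first step: affine maps
  have hcomm : ∀ a b : H, ∃ c d : K, c ≠ 0 ∧ ∀ x, f ⁅a, b⁆ x = c * x + d := by
    intro a b
    obtain ⟨a₁, b₁, φ₁, h₁⟩ := hf a
    obtain ⟨a₂, b₂, φ₂, h₂⟩ := hf b
    obtain ⟨c, d, φ, h⟩ := hf ⁅a, b⁆
    refine ⟨c, d, c.ne_zero, fun x => ?_⟩
    have he : ∀ x, f ⁅a, b⁆ (f b (f a x)) = f a (f b x) := fun x => by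
      rw [← Equiv.Perm.mul_apply, ← Equiv.Perm.mul_apply, ← Equiv.Perm.mul_apply (f := f a),
        ← map_mul, ← map_mul, ← map_mul]
      congr 2
      rw [commutatorElement_def]
      group
    obtain ⟨-, h4⟩ := semiaffine_eq (φ := φ₂.trans φ₁) (φ' := (φ₁.trans φ₂).trans φ)
      (a := (a₁ : K) * φ₁ a₂) (b := (a₁ : K) * φ₁ b₂ + b₁)
      (a' := (c : K) * φ ((a₂ : K) * φ₂ a₁)) (b' := (c : K) * φ ((a₂ : K) * φ₂ b₁ + b₂) + d)
      (mul_ne_zero a₁.ne_zero (by simp)) fun x => by
        have h3 := he x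
        simp only [h₁, h₂, h, map_add, map_mul] at h3
        simp only [RingEquiv.trans_apply, map_add, map_mul]
        linear_combination -h3
    rw [h x]
    obtain ⟨w, rfl⟩ := (φ₁.trans φ₂).surjective x
    have h5 := h4 w
    simp only [RingEquiv.trans_apply] at h5 ⊢
    rw [← h5, ringEquiv_comm]
  have haff : ∀ h, ∃ c d : K, c ≠ 0 ∧ ∀ x, f h x = c * x + d := fun h => by
    obtain ⟨c, d, hc⟩ := key (affineGroup K) (fun a b => by
      obtain ⟨c, d, hc, h⟩ := hcomm a b
      exact ⟨Units.mk0 c hc, d, h⟩) h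
    exact ⟨c, d, c.ne_zero, hc⟩
  -- second step: translations
  let T : Subgroup (Equiv.Perm K) :=
    { carrier := {σ | ∃ d, ∀ x, σ x = x + d}
      one_mem' := ⟨0, fun x => by simp⟩
      mul_mem' := by
        rintro σ τ ⟨d, hd⟩ ⟨d', hd'⟩
        exact ⟨d' + d, fun x => by rw [Equiv.Perm.mul_apply, hd', hd, add_assoc]⟩
      inv_mem' := by
        rintro σ ⟨d, hd⟩
        refine ⟨-d, fun x => σ.injective ?_⟩
        rw [Equiv.Perm.inv_def, Equiv.apply_symm_apply, hd, add_assoc, neg_add_cancel, add_zero] }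
  have htr : ∀ h, ∃ d : K, ∀ x, f h x = x + d := key T fun a b => by
    obtain ⟨a₁, b₁, h₁0, h₁⟩ := haff a
    obtain ⟨a₂, b₂, h₂0, h₂⟩ := haff b
    obtain ⟨c, d, -, h⟩ := haff ⁅a, b⁆
    refine ⟨d, fun x => ?_⟩
    have he : ∀ x, f ⁅a, b⁆ (f b (f a x)) = f a (f b x) := fun x => by
      rw [← Equiv.Perm.mul_apply, ← Equiv.Perm.mul_apply, ← Equiv.Perm.mul_apply (f := f a),
        ← map_mul, ← map_mul, ← map_mul]
      congr 2
      rw [commutatorElement_def]
      group
    have h0 := he 0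
    have h1 := he 1
    simp only [h₁, h₂, h] at h0 h1
    have hc : c = 1 := mul_left_cancel₀ (mul_ne_zero h₁0 h₂0) (by linear_combination h1 - h0)
    rw [h x, hc, one_mul]
  have h1 := key ⊥ (fun a b => by
    obtain ⟨d, hd⟩ := htr a
    obtain ⟨d', hd'⟩ := htr b
    rw [Subgroup.mem_bot, map_commutatorElement, commutatorElement_eq_one_iff_mul_comm]
    exact Equiv.ext fun x => by
      rw [Equiv.Perm.mul_apply, Equiv.Perm.mul_apply, hd', hd, hd, hd', add_right_comm]) g
  exact Subgroup.mem_bot.1 h1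

universe u

variable {G : Type u} [Group G] [Finite G] {p : ℕ} [Fact p.Prime] {z y : G} {e t n : ℕ}

theorem Num.psl_of_one (h : Num p z y e t n) (hn : n = 1) (ht : t = 2) :
    ∃ (F : Type) (_ : Field F) (_ : Fintype F), Fintype.card F = p ∧ 3 < p ∧
      Nonempty (G ≃* Matrix.ProjectiveSpecialLinearGroup (Fin 2) F) := by
  have hp := h.ctx.prime
  have he := h.he
  have het := h.het
  rw [ht] at het
  haveI := Fintype.ofFinite (Sylow p G)
  set f := MulAction.toPermHom G (Sylow p G) with hf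
  have hα : Fintype.card (Sylow p G) = p + 1 := by
    rw [← Nat.card_eq_fintype_card, h.card_sylow, hn]
    ring
  obtain ⟨P, hP⟩ := h.ctx.exists_sylow
  have hker : ∀ k, f k = 1 → k = 1 := by
    intro k hk
    have hfix : ∀ x, f x = 1 → ∀ Q : Sylow p G, x ∈ Subgroup.normalizer ((Q : Subgroup G) : Set G) :=
      fun x hx Q => Sylow.smul_eq_iff_mem_normalizer.1
        (show f x Q = Q by rw [hx]; rfl)
    have hzf : ∀ i, ¬ p ∣ i → f (z ^ i) ≠ 1 := by
      intro i hi hzi
      have hzp : IsPGroup p (Subgroup.zpowers (z ^ i)) := IsPGroup.of_card (p := p) (n := 1)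
        (by rw [Nat.card_zpowers, h.ctx.hyp.orderOf_pow hi, pow_one])
      have hsub : Subsingleton (Sylow p G) := by
        have key : ∀ Q : Sylow p G, (Q : Subgroup G) = Subgroup.zpowers (z ^ i) := fun Q => by
          refine (Subgroup.eq_of_le_of_card_ge (Subgroup.zpowers_le.2 ?_) ?_).symm
          · exact ((hzp.inf_normalizer_sylow Q).le ⟨Subgroup.mem_zpowers _, hfix _ hzi Q⟩).2
          · rw [Nat.card_zpowers, h.ctx.hyp.orderOf_pow hi, Q.card_eq_multiplicity,
              h.ctx.hyp.factorization_eq_one, pow_one]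
        exact ⟨fun A B => Sylow.ext ((key A).trans (key B).symm)⟩
      have := Fintype.card_le_one_iff_subsingleton.2 hsub
      rw [hα] at this
      have := hp.two_le
      omega
    have hkn : k ∈ norm₁ z := by
      have := hfix k hk P
      rw [hP] at this
      exact this
    have hm : k * z * k⁻¹ * z⁻¹ ∈ Subgroup.zpowers z :=
      mul_mem ((Subgroup.mem_normalizer_iff.1 hkn z).1 (Subgroup.mem_zpowers z))
        (inv_mem (Subgroup.mem_zpowers z))
    obtain ⟨i, -, hi⟩ := h.ctx.hyp.mem_zpowers_iff_pow.1 hm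
    have hone : f (z ^ i) = 1 := by
      rw [hi, map_mul, map_mul, map_mul, hk, one_mul, map_inv, hk, inv_one, mul_one, map_inv,
        mul_inv_cancel]
    by_cases hip : p ∣ i
    · rw [h.ctx.hyp.pow_eq_one_iff.2 hip, eq_comm, mul_inv_eq_one, mul_inv_eq_iff_eq_mul] at hi
      have hkz : k ∈ Subgroup.zpowers z := by
        rw [← h.ctx.cent_eq, Subgroup.mem_centralizer_singleton_iff]
        exact hi
      obtain ⟨j, -, rfl⟩ := h.ctx.hyp.mem_zpowers_iff_pow.1 hkz
      by_contra hne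
      exact hzf j (fun hd => hne (h.ctx.hyp.pow_eq_one_iff.2 hd)) hk
    · exact absurd hone (hzf i hip)
  have hinj : Function.Injective f := (injective_iff_map_eq_one f).2 hker
  haveI : MulAction.IsPretransitive f.range (Sylow p G) := ⟨fun a b => by
    obtain ⟨g, hg⟩ := MulAction.exists_smul_eq G a b
    exact ⟨⟨f g, g, rfl⟩, hg⟩⟩
  let ι : G ≃* f.range := MonoidHom.ofInjective hinj
  have hG : Nat.card f.range = (p + 1) * p * e := by
    rw [← Nat.card_congr ι.toEquiv, h.card_eq, hn]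
    ring
  rcases CfsgLib.PrimePlusOne.classification hp hα f.range hG (by omega) with
    ⟨hd, -⟩ | ⟨-, ⟨φ⟩⟩ | ⟨q, -, -, -, ε, hε⟩
  · omega
  · exact ⟨ZMod p, inferInstance, inferInstance, ZMod.card p, by omega, ⟨ι.trans φ⟩⟩
  · exfalso
    have h1 := semiaffine_perfect (K := GaloisField 2 q) h.ctx.perfect
      ((Equiv.permCongrHom ε).toMonoidHom.comp f) (fun g => hε ⟨f g, g, rfl⟩) z
    simp only [MonoidHom.coe_comp, MulEquiv.coe_toMonoidHom, Function.comp_apply,
      EmbeddingLike.map_eq_one_iff] at h1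
    exact h.ctx.hyp.ne_one (hker z h1)

end CfsgLib.BrauerRey
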