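import Cfsg.Agent.Lib.BrauerRey.Sharp
import Cfsg.Agent.Lib.BrauerRey.PlusOne

/-!
# Perfect groups with few Sylow subgroups and a self-centralising element of prime order
-/

set_option autoImplicit false

namespace CfsgLib.BrauerRey

open Cfsg CfsgLib.DefectOne
open scoped Classical

universe u

variable {G : Type u} [Group G] [Finite G] {p : ℕ} [Fact p.Prime] {z : G}

/-- The theorem of Brauer on groups with a self-centralising element of prime order. -/
theorem Ctx.classification (h : Ctx p z) (hn : 2 * Nat.card (Sylow p G) < (p + 1) * (p + 2)) :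
    (∃ (F : Type) (_ : Field F) (_ : Fintype F), Fintype.card F = p ∧ 3 < p ∧
      Nonempty (G ≃* Matrix.ProjectiveSpecialLinearGroup (Fin 2) F)) ∨
    (∃ (m : ℕ) (F : Type) (_ : Field F) (_ : Fintype F), Fintype.card F = 2 ^ m ∧ p = 2 ^ m + 1 ∧
      3 < p ∧ Nonempty (G ≃* Matrix.ProjectiveSpecialLinearGroup (Fin 2) F)) := by
  obtain ⟨y, e, t, n, hnum⟩ := h.exists_num
  rw [hnum.card_sylow] at hn
  have hn' : 2 * n < p + 3 := by
    by_contra hcon
    push Not at hcon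
    have h1 := Nat.mul_le_mul_right p hcon
    have h2 : (p + 1) * (p + 2) = (p + 3) * p + 2 := by ring
    have h3 : 2 * (1 + n * p) = 2 * n * p + 2 := by ring
    omega
  obtain ⟨X, Y, σ, δ, f₀, B⟩ := hnum.exists_blk
  obtain ⟨w, v, Xp, Xm, D⟩ := exists_degs hnum B hn'
  rcases D.exc_cases hn' with ⟨hδ, hf, -⟩ | ⟨hδ, hf, hrel⟩
  · obtain ⟨h1, h2⟩ := D.n_eq_one_of_plus hδ hf
    exact Or.inl (hnum.psl_of_one h1 h2)
  have N : Neg p z y e t n X Y σ δ f₀ w v Xp Xm := ⟨D, hδ, hf, hrel⟩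
  choose! k hk using fun χ (hχ : χ ∈ offBlock X Y) => off_dvd D hχ
  have hk' : ∀ χ ∈ offBlock X Y, deg χ = p * k χ := fun χ hχ => (hk χ hχ).1
  obtain ⟨u, hu, hu2, -⟩ := N.exists_u
  rcases N.e_or_t hu hu2 k hk' with he | ht
  · obtain ⟨m, F, iF, iFF, hF, hpm, hiso⟩ := N.two_of_e_two hu hu2 he k hk'
    refine Or.inr ⟨m, F, iF, iFF, hF, hpm, ?_, hiso⟩
    have := hnum.het
    have := D.t2
    rw [he] at *
    omega
  · obtain ⟨-, h1, -⟩ := N.w_one hu hu2 k hk'
    exact Or.inl (hnum.psl_of_one (by omega) ht)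

end CfsgLib.BrauerRey
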