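import Cfsg.Agent.Lib.BrauerRey.LargeArith
import Cfsg.Agent.Lib.BrauerRey.Main
import Cfsg.Agent.Lib.SmallPSL.Basic

/-!
# The centraliser of an element of large prime order in a simple group
-/

set_option autoImplicit false

namespace CfsgLib.BrauerRey

open Cfsg CfsgLib.DefectOne
open scoped ComplexConjugate Classical

universe u

variable {G : Type u} [Group G] [Finite G] {p : ℕ} [Fact p.Prime] {z : G}

theorem two_le_relIndex (h : HypOne p z) (hperf : commutator G = ⊤) :
    2 ≤ (cent z).relIndex (norm₁ z) := by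
  have h0 : (cent z).relIndex (norm₁ z) ≠ 0 := Subgroup.index_ne_zero_of_finite
  suffices (cent z).relIndex (norm₁ z) ≠ 1 by omega
  intro h1
  have hle := Subgroup.relIndex_eq_one.1 h1
  let P : Sylow p G := Sylow.ofCard (Subgroup.zpowers z)
    (by rw [h.card_zpowers, h.factorization_eq_one, pow_one])
  have hle' : Subgroup.normalizer ((P : Subgroup G) : Set G) ≤
      Subgroup.centralizer ((P : Subgroup G) : Set G) := by
    show Subgroup.normalizer ((Subgroup.zpowers z : Subgroup G) : Set G) ≤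
      Subgroup.centralizer ((Subgroup.zpowers z : Subgroup G) : Set G)
    rw [show Subgroup.centralizer ((Subgroup.zpowers z : Subgroup G) : Set G) = cent z by
      rw [Subgroup.zpowers_eq_closure, Subgroup.centralizer_closure]]
    exact hle
  have hc := MonoidHom.ker_transferSylow_isComplement' P hle'
  have hcomm : ∀ a b : (P : Subgroup G), a * b = b * a := by
    rintro ⟨a, ha⟩ ⟨b, hb⟩
    obtain ⟨i, rfl⟩ := Subgroup.mem_zpowers_iff.1 ha
    obtain ⟨j, rfl⟩ := Subgroup.mem_zpowers_iff.1 hb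
    exact Subtype.ext (zpow_mul_comm z i j)
  letI : CommGroup (P : Subgroup G) :=
    { (inferInstance : Group (P : Subgroup G)) with mul_comm := hcomm }
  have ht : (MonoidHom.transferSylow P hle').ker = ⊤ :=
    eq_top_iff.2 fun g _ => MonoidHom.mem_ker.2 (hom_eq_one (A := (P : Subgroup G)) hperf _ g)
  rw [ht, Subgroup.isComplement'_top_left] at hc
  exact h.ne_one (Subgroup.zpowers_eq_bot.1 hc)

theorem cent_eq_of_one [IsSimpleGroup G] (h : HypOne p z) (h1 : Nat.card (Sylow p G) = p + 1) :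
    cent z = Subgroup.zpowers z := by
  have hp := h.prime
  refine le_antisymm (fun g hg => ?_) (Subgroup.zpowers_le.2 self_mem_cent)
  rw [mem_cent_iff] at hg
  set f := MulAction.toPermHom G (Sylow p G) with hf
  have hinj : Function.Injective f := by
    rw [← MonoidHom.ker_eq_bot_iff]
    refine ((inferInstance : f.ker.Normal).eq_bot_or_eq_top).resolve_right fun htop => ?_
    haveI : Subsingleton (Sylow p G) := ⟨fun a b => by
      obtain ⟨x, hx⟩ := MulAction.exists_smul_eq G a b
      have h2 : f x = 1 := MonoidHom.mem_ker.1 (htop ▸ Subgroup.mem_top x)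
      rw [← hx]
      exact (congrFun (congrArg DFunLike.coe h2) a).symm⟩
    have := Finite.card_le_one_iff_subsingleton.2 (inferInstance : Subsingleton (Sylow p G))
    have := hp.two_le
    omega
  obtain ⟨P, hP⟩ : ∃ P : Sylow p G, (P : Subgroup G) = Subgroup.zpowers z :=
    ⟨Sylow.ofCard (Subgroup.zpowers z) (by rw [h.card_zpowers, h.factorization_eq_one, pow_one]),
      rfl⟩
  have hfixP : ∀ x, Commute x z → x • P = P := fun x hx => by
    refine Sylow.smul_eq_iff_mem_normalizer.2 (Subgroup.mem_normalizer_iff.2 fun a => ?_)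
    rw [hP]
    have h2 : ∀ a ∈ Subgroup.zpowers z, x * a * x⁻¹ = a := fun a ha => by
      obtain ⟨i, rfl⟩ := Subgroup.mem_zpowers_iff.1 ha
      rw [(hx.zpow_right i).eq, mul_inv_cancel_right]
    refine ⟨fun ha => by rw [h2 a ha]; exact ha, fun ha => ?_⟩
    have h3 := h2 _ ha
    rw [mul_left_inj, mul_right_inj] at h3
    rwa [h3] at ha
  -- `z` is a `p`-cycle off `P`
  have hzQ : ∀ Q : Sylow p G, z • Q = Q → Q = P := by
    intro Q hQ
    have hzp : IsPGroup p (Subgroup.zpowers z) := IsPGroup.of_card (p := p) (n := 1)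
      (by rw [h.card_zpowers, pow_one])
    refine Sylow.ext ((Subgroup.eq_of_le_of_card_ge (Subgroup.zpowers_le.2 ?_) ?_).symm.trans
      hP.symm)
    · exact ((hzp.inf_normalizer_sylow Q).le
        ⟨Subgroup.mem_zpowers _, Sylow.smul_eq_iff_mem_normalizer.1 hQ⟩).2
    · rw [h.card_zpowers, Q.card_eq_multiplicity, h.factorization_eq_one, pow_one]
  haveI : Nontrivial (Sylow p G) := Finite.one_lt_card_iff_nontrivial.1 (by
    have := hp.two_le; omega)
  obtain ⟨Q, hQ⟩ := exists_ne P
  have horb : ∀ R : Sylow p G, R ≠ P → ∃ i : ℕ, z ^ i • Q = R := by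
    intro R hR
    haveI := Fintype.ofFinite (Sylow p G)
    let F : Fin p → {R : Sylow p G // R ≠ P} := fun i => ⟨z ^ (i : ℕ) • Q, fun e => hQ
      (MulAction.injective (z ^ (i : ℕ)) (e.trans (hfixP _ ((Commute.refl z).pow_left _)).symm))⟩
    have hF : Function.Bijective F := by
      rw [Fintype.bijective_iff_injective_and_card]
      refine ⟨fun i j hij => ?_, ?_⟩
      · have h2 : z ^ (i : ℕ) • Q = z ^ (j : ℕ) • Q := congrArg Subtype.val hij
        by_contra hne
        refine hQ (hzQ Q ?_)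
        obtain ⟨l, -, hl⟩ := h.mem_zpowers_iff_pow.1
          (mul_mem (inv_mem (pow_mem (Subgroup.mem_zpowers z) (j : ℕ)))
            (pow_mem (Subgroup.mem_zpowers z) (i : ℕ)))
        have hlp : ¬ p ∣ l := fun hd => by
          rw [h.pow_eq_one_iff.2 hd, eq_comm, inv_mul_eq_one] at hl
          have := h.pow_eq_pow_iff.1 hl
          rw [Nat.mod_eq_of_lt j.2, Nat.mod_eq_of_lt i.2] at this
          exact hne (Fin.ext this.symm)
        obtain ⟨k, hk⟩ := h.exists_pow_eq_self hlp
        have hfix : z ^ l ∈ MulAction.stabilizer G Q := by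
          rw [MulAction.mem_stabilizer_iff, hl, mul_smul, h2, inv_smul_smul]
        exact hk ▸ pow_mem hfix k
      · rw [Fintype.card_fin, Fintype.card_subtype_compl, Fintype.card_subtype_eq,
          ← Nat.card_eq_fintype_card, h1]
        omega
    obtain ⟨i, hi⟩ := hF.2 ⟨R, hR⟩
    exact ⟨i, congrArg Subtype.val hi⟩
  obtain ⟨j, hj⟩ := horb (g • Q) (fun e => hQ
    (MulAction.injective g (e.trans (hfixP g hg).symm)))
  have hgj : g = z ^ j := hinj (Equiv.ext fun R => by
    show g • R = z ^ j • R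
    by_cases hR : R = P
    · rw [hR, hfixP g hg, hfixP _ ((Commute.refl z).pow_left j)]
    · obtain ⟨i, rfl⟩ := horb R hR
      rw [← mul_smul, (hg.pow_right i).eq, mul_smul, ← hj, ← mul_smul, ← mul_smul, pow_mul_comm])
  exact hgj ▸ Subgroup.npow_mem_zpowers z j

/-- A character of degree `p - 1` with value `-1` on `z^i v` is trivial at `v`. -/
theorem trivial_of_degree (h : HypOne p z) {v : G} (χ : IrrCharacter G)
    (h1 : deg χ + 1 = p) (h2 : ∀ i, ¬ p ∣ i → (χ : G → ℂ) (z ^ i * v) = -1)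
    (h3 : ∀ i, ¬ p ∣ i → (χ : G → ℂ) (z ^ i) = -1) :
    (χ : G → ℂ) v = (χ : G → ℂ) 1 := by
  obtain ⟨N, ρ, hρ, hχρ⟩ := χ.2
  have hp := h.prime
  set S : Module.End ℂ (Fin N → ℂ) := ∑ i ∈ Finset.range p, ρ (z ^ i) with hS
  have hzS : ρ z * S = S := by
    have e1 := Finset.sum_range_succ' (fun i => ρ (z ^ i)) p
    rw [Finset.sum_range_succ, h.pow_p, pow_zero] at e1
    rw [hS, Finset.mul_sum]
    simp only [← map_mul, ← pow_succ']
    exact (add_right_cancel e1).symm
  have hiS : ∀ i : ℕ, ρ (z ^ i) * S = S := fun i => by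
    induction i with
    | zero => rw [pow_zero, map_one, one_mul]
    | succ i ih => rw [pow_succ, map_mul, mul_assoc, hzS, ih]
  have hSS : S * S = (p : ℂ) • S := by
    conv_lhs => rw [hS, Finset.sum_mul]
    rw [Finset.sum_congr rfl fun i _ => hiS i, Finset.sum_const, Finset.card_range,
      Nat.cast_smul_eq_nsmul]
  have hp0 : (p : ℂ) ≠ 0 := Nat.cast_ne_zero.2 hp.ne_zero
  have hsum : ∀ w : G, (∀ i, ¬ p ∣ i → (χ : G → ℂ) (z ^ i * w) = -1) →
      ∑ i ∈ Finset.range p, (χ : G → ℂ) (z ^ i * w) = (χ : G → ℂ) w - ((p : ℂ) - 1) := by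
    intro w hw
    rw [← Finset.add_sum_erase _ _ (Finset.mem_range.2 hp.pos),
      Finset.sum_congr rfl (fun i hi => hw i (fun hd => (Finset.mem_erase.1 hi).1
        (Nat.eq_zero_of_dvd_of_lt hd (Finset.mem_range.1 (Finset.mem_erase.1 hi).2)))),
      Finset.sum_const, Finset.card_erase_of_mem (Finset.mem_range.2 hp.pos), Finset.card_range,
      pow_zero, one_mul, nsmul_eq_mul, Nat.cast_sub hp.one_le]
    push_cast
    ring
  have hd : (χ : G → ℂ) 1 = (p : ℂ) - 1 := by
    rw [← deg_cast, ← h1]; push_cast; ring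
  set E := (p : ℂ)⁻¹ • S with hE
  have hidem : IsIdempotentElem E := by
    show E * E = E
    rw [hE, smul_mul_smul_comm, hSS, smul_smul, mul_assoc, inv_mul_cancel₀ hp0, mul_one]
  have htr : LinearMap.trace ℂ _ E = 0 := by
    rw [hE, map_smul, hS, map_sum]
    have e2 : ∑ i ∈ Finset.range p, LinearMap.trace ℂ _ (ρ (z ^ i)) = 0 := by
      have e3 := hsum 1 fun i hi => by rw [mul_one]; exact h3 i hi
      simp only [mul_one, hd, sub_self] at e3
      rw [← hχρ] at e3
      exact e3
    rw [e2, smul_zero]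
  have hE0 : E = 0 := by
    have hproj := (LinearMap.isProj_range_iff_isIdempotentElem E).2 hidem
    rw [hproj.trace, Nat.cast_eq_zero, Submodule.finrank_eq_zero, LinearMap.range_eq_bot] at htr
    exact htr
  have hS0 : S = 0 := by
    rw [hE, smul_eq_zero] at hE0
    exact hE0.resolve_left (inv_ne_zero hp0)
  have e4 := hsum v h2
  rw [hd, ← sub_eq_zero, ← e4, ← hχρ]
  show ∑ i ∈ Finset.range p, LinearMap.trace ℂ _ (ρ (z ^ i * v)) = (0 : ℂ)
  simp only [map_mul]
  rw [← map_sum, ← Finset.sum_mul, ← hS, hS0, zero_mul, map_zero]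

theorem eq_one_of_apply [IsSimpleGroup G] (χ : IrrCharacter G)
    (hne : χ ≠ CfsgLib.Char.principalIrr) {v : G} (hv : (χ : G → ℂ) v = (χ : G → ℂ) 1) : v = 1 := by
  obtain ⟨N, ρ, hρ, hχρ⟩ := χ.2
  let f : G →* Module.End ℂ (Fin N → ℂ) := ρ
  have hmem : ∀ g, g ∈ f.ker ↔ (χ : G → ℂ) g = (χ : G → ℂ) 1 := fun g => by
    rw [← hχρ, Representation.char_one, CfsgLib.Char.character_eq_degree_iff ρ g]
    rfl
  rcases (inferInstance : f.ker.Normal).eq_bot_or_eq_top with hk | hk
  · exact Subgroup.mem_bot.1 (hk ▸ (hmem v).2 hv)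
  · exfalso
    refine hne ?_
    have h1 : deg χ = 1 := by
      haveI := Fintype.ofFinite G
      have h2 := CfsgLib.Char.classInner_irr_self χ.2
      have h3 : ∀ g, (χ : G → ℂ) g = deg χ := fun g => by
        rw [deg_cast, (hmem g).1 (hk ▸ Subgroup.mem_top g)]
      have hG : (Nat.card G : ℂ) ≠ 0 := Nat.cast_ne_zero.2 Nat.card_pos.ne'
      simp only [classInner, h3, map_natCast, Finset.sum_const, Finset.card_univ, nsmul_eq_mul,
        ← Nat.card_eq_fintype_card, inv_mul_cancel_left₀ hG] at h2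
      have h4 : deg χ * deg χ = 1 := by exact_mod_cast h2
      exact Nat.eq_one_of_mul_eq_one_right h4
    refine Subtype.ext (funext fun g => ?_)
    rw [(hmem g).1 (hk ▸ Subgroup.mem_top g), ← deg_cast, h1, CfsgLib.Char.principalIrr_apply,
      Nat.cast_one]

theorem cent_eq_of_lt [IsSimpleGroup G] (h : HypOne p z) (hperf : commutator G = ⊤) {E n : ℕ}
    (hG : Nat.card G = p * (E * (1 + n * p))) (hE : E * n < p) (hn : 2 ≤ n) :
    cent z = Subgroup.zpowers z := by
  have hp := h.prime
  have hE0 : 0 < E := by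
    rcases Nat.eq_zero_or_pos E with e1 | e1
    · rw [e1, zero_mul, mul_zero] at hG
      exact absurd hG Nat.card_pos.ne'
    · exact e1
  set φ : IrrCharacter (regPart p z) := CfsgLib.Char.principalIrr with hφ
  obtain ⟨Y, δ, m, sh⟩ := h.exists_shape φ
  have he2 := two_le_relIndex h hperf
  have hcX : (h.bset φ \ Y).card = (cent z).relIndex (norm₁ z) := by
    rw [sh.card_X, hφ, h.card_expGroup_principal]
  have hfdvd : ∀ χ ∈ h.bset φ, ∃ v, deg χ * v = E * (1 + n * p) := by
    intro χ hχ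
    have h1 : deg χ ∣ p * (E * (1 + n * p)) := hG ▸ deg_dvd χ
    obtain ⟨v, hv⟩ :=
      ((hp.coprime_iff_not_dvd.2 (h.not_dvd_of_mem_bset hχ)).symm).dvd_of_dvd_mul_left h1
    exact ⟨v, hv.symm⟩
  have hsing : ∀ χ ∈ h.bset φ \ Y, ∀ i, ¬ p ∣ i → ∀ v : regPart p z,
      (χ : G → ℂ) (z ^ i * (v : G)) = -(m χ : ℂ) := fun χ hχ i hi v =>
    HypOne.Shape.principal_singular h sh hχ hi v
  -- it suffices to find a degree `p - 1`
  suffices ∃ χ ∈ h.bset φ \ Y, χ ≠ CfsgLib.Char.principalIrr ∧ m χ = 1 by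
    obtain ⟨χ, hχ, hne, hm⟩ := this
    have h1 : deg χ + 1 = p := by
      obtain ⟨v, hv⟩ := hfdvd χ (Finset.mem_sdiff.1 hχ).1
      have hmod : (deg χ : ℤ) ≡ -m χ [ZMOD p] := HypOne.Shape.principal_degree_X h sh hχ
      rw [hm] at hmod
      have h2 : ((deg χ + 1 : ℕ) : ℤ) ≡ ((0 : ℕ) : ℤ) [ZMOD p] := by
        push_cast
        simpa using hmod.add_right 1
      have h3 := Int.natCast_modEq_iff.1 h2
      rw [Nat.ModEq, Nat.zero_mod] at h3
      exact small_minus hE hn hE0 h3 hv
    have hval : ∀ v : regPart p z, ∀ i, ¬ p ∣ i → (χ : G → ℂ) (z ^ i * (v : G)) = -1 :=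
      fun v i hi => by rw [hsing χ hχ i hi v, hm, Int.cast_one]
    have hbot : ∀ v : regPart p z, (v : G) = 1 := fun v =>
      eq_one_of_apply χ hne (trivial_of_degree h χ h1 (hval v) fun i hi => by
        have := hval 1 i hi
        rwa [Subgroup.coe_one, mul_one] at this)
    refine le_antisymm (fun g hg => ?_) (Subgroup.zpowers_le.2 self_mem_cent)
    obtain ⟨i, -, v, rfl⟩ := h.exists_decomp hg
    rw [hbot v, mul_one]
    exact Subgroup.npow_mem_zpowers z i
  by_contra hcon
  push Not at hcon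
  -- otherwise all non-principal degrees in `X` are `1 + n p`
  have hplus : ∀ χ ∈ h.bset φ \ Y, χ ≠ CfsgLib.Char.principalIrr →
      m χ = -1 ∧ deg χ = 1 + n * p := by
    intro χ hχ hne
    have hm : m χ = -1 := (sh.m_sign χ hχ).resolve_left (hcon χ hχ hne)
    obtain ⟨v, hv⟩ := hfdvd χ (Finset.mem_sdiff.1 hχ).1
    refine ⟨hm, small_plus hE (by omega) hE0 ?_ ?_ hv⟩
    · have := deg_pos χ
      rcases Nat.lt_or_ge 1 (deg χ) with h1 | h1
      · exact h1
      · exact absurd (eq_principal_of_deg_eq_one hperf (by omega)) hne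
    · have hmod : (deg χ : ℤ) ≡ -m χ [ZMOD p] := HypOne.Shape.principal_degree_X h sh hχ
      rw [hm, neg_neg] at hmod
      have h2 : deg χ ≡ 1 [MOD p] := Int.natCast_modEq_iff.1 (by exact_mod_cast hmod)
      rwa [Nat.ModEq, Nat.mod_eq_of_lt hp.one_lt] at h2
  obtain ⟨θ, hθ⟩ : Y.Nonempty := by
    rw [← Finset.card_pos, sh.card_Y]
    exact Nat.pos_of_ne_zero Subgroup.index_ne_zero_of_finite
  have hr : δ * (deg θ : ℤ) = ∑ χ ∈ h.bset φ \ Y, -m χ * (deg χ : ℤ) := by
    refine Int.cast_injective (α := ℂ) ?_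
    push_cast
    simp only [deg_cast, neg_mul, Finset.sum_neg_distrib]
    linear_combination HypOne.Shape.relation h sh hθ (show ¬ p ∣ orderOf (1 : G) by
      rw [orderOf_one]; exact hp.not_dvd_one)
  by_cases hX : CfsgLib.Char.principalIrr ∈ h.bset φ \ Y
  · have hm1 : m CfsgLib.Char.principalIrr = -1 := by
      have h1 := hsing _ hX 1 hp.not_dvd_one 1
      rw [CfsgLib.Char.principalIrr_apply] at h1
      have : (m CfsgLib.Char.principalIrr : ℂ) = ((-1 : ℤ) : ℂ) := by
        push_cast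
        linear_combination h1
      exact_mod_cast this
    rw [← Finset.add_sum_erase _ _ hX, hm1, deg_principal,
      Finset.sum_congr rfl (g := fun _ => ((1 + n * p : ℕ) : ℤ)) (fun χ hχ => by
        obtain ⟨e1, e2⟩ := hplus χ (Finset.mem_erase.1 hχ).2 (Finset.mem_erase.1 hχ).1
        rw [e1, e2, neg_neg, one_mul]),
      Finset.sum_const, Finset.card_erase_of_mem hX, hcX, nsmul_eq_mul] at hr
    set A := (cent z).relIndex (norm₁ z) - 1 with hA
    have hnat : deg θ = 1 + A * (1 + n * p) := by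
      rcases sh.δ_sign with hs | hs <;> rw [hs] at hr
      · rw [neg_neg, one_mul, one_mul] at hr
        exact_mod_cast hr
      · exfalso
        have h2 : (0 : ℤ) ≤ ((A : ℕ) : ℤ) * ((1 + n * p : ℕ) : ℤ) := by positivity
        rw [neg_neg, Nat.cast_one] at hr
        linarith [Int.natCast_nonneg (deg θ)]
    obtain ⟨v, hv⟩ := hfdvd θ (sh.subset hθ)
    have hco : Nat.Coprime (deg θ) (1 + n * p) := by
      rw [hnat, Nat.coprime_add_mul_right_left]
      exact Nat.coprime_one_left _
    have h3 := Nat.le_of_dvd hE0 (hco.dvd_of_dvd_mul_right ⟨v, hv.symm⟩)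
    have h4 : 1 + n * p ≤ A * (1 + n * p) := Nat.le_mul_of_pos_left _ (by omega)
    have h5 : p ≤ n * p := Nat.le_mul_of_pos_left _ (by omega)
    have h6 : E ≤ E * n := Nat.le_mul_of_pos_right E (by omega)
    omega
  · have hY : CfsgLib.Char.principalIrr ∈ Y := by
      by_contra hY
      exact hX (Finset.mem_sdiff.2 ⟨h.principalIrr_mem_bset, hY⟩)
    have hdθ : deg θ = 1 := by
      rw [← deg_principal (G := G)]
      refine Nat.cast_injective (R := ℂ) ?_
      rw [deg_cast, deg_cast]
      exact HypOne.Shape.eq_on_regular h sh hθ hY (by rw [orderOf_one]; exact hp.not_dvd_one)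
    rw [Finset.sum_congr rfl (g := fun _ => ((1 + n * p : ℕ) : ℤ)) (fun χ hχ => by
        obtain ⟨e1, e2⟩ := hplus χ hχ (fun e0 => hX (e0 ▸ hχ))
        rw [e1, e2, neg_neg, one_mul]),
      Finset.sum_const, hcX, nsmul_eq_mul, hdθ, Nat.cast_one, mul_one] at hr
    have h2 : (2 : ℤ) * 2 ≤ (((cent z).relIndex (norm₁ z) : ℕ) : ℤ) * ((1 + n * p : ℕ) : ℤ) := by
      have : 2 * 2 ≤ (cent z).relIndex (norm₁ z) * (1 + n * p) :=
        Nat.mul_le_mul he2 (by have := Nat.le_mul_of_pos_left p (show 0 < n by omega); omega)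
      exact_mod_cast this
    rcases sh.δ_sign with hs | hs <;> omega

/-- Simple groups with a prime divisor beyond the cube root of the order. -/
theorem large_prime {G : Type u} [Group G] [Finite G] [IsSimpleGroup G] (hG : ¬ IsCyclic G) {p : ℕ}
    (hp : p.Prime) (hdvd : p ∣ Nat.card G) (hbig : Nat.card G < p ^ 3) :
    (∃ (F : Type) (_ : Field F) (_ : Fintype F), Fintype.card F = p ∧ 3 < p ∧
      Nonempty (G ≃* Matrix.ProjectiveSpecialLinearGroup (Fin 2) F)) ∨
    (∃ (m : ℕ) (F : Type) (_ : Field F) (_ : Fintype F), Fintype.card F = 2 ^ m ∧ p = 2 ^ m + 1 ∧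
      3 < p ∧ Nonempty (G ≃* Matrix.ProjectiveSpecialLinearGroup (Fin 2) F)) := by
  haveI := Fact.mk hp
  have hna : ¬ IsMulCommutative G := fun hc =>
    hG (by letI : CommGroup G := { (inferInstance : Group G) with mul_comm := hc.is_comm.comm }
           exact IsSimpleGroup.isCyclic)
  have hperf := CfsgLib.SmallPSL.commutator_eq_top hna
  let P : Sylow p G := Classical.arbitrary _
  obtain ⟨k, hk⟩ := card_sylow_modEq_one p G |>.symm |> (Nat.modEq_iff_dvd' Nat.card_pos).1
  have hk1 : 1 ≤ k := by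
    by_contra h0
    have h1 : Nat.card (Sylow p G) = 1 := by
      rw [show k = 0 by omega, mul_zero] at hk
      have := Nat.card_pos (α := Sylow p G)
      omega
    have hnorm : (P : Subgroup G).Normal := by
      rw [← Subgroup.normalizer_eq_top_iff, ← Subgroup.index_eq_one, ← h1]
      exact P.card_eq_index_normalizer.symm
    rcases hnorm.eq_bot_or_eq_top with e1 | e1
    · exact P.ne_bot_of_dvd_card hdvd e1
    · have hsolv : IsPGroup p G := (e1 ▸ P.2).of_equiv Subgroup.topEquiv
      haveI : Group.IsNilpotent G := hsolv.isNilpotent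
      haveI : Group.IsSolvable G := inferInstance
      exact hna ⟨⟨IsSimpleGroup.comm_iff_isSolvable.2 this⟩⟩
  have hcard := Subgroup.card_mul_index (Subgroup.normalizer ((P : Subgroup G) : Set G))
  rw [show (Subgroup.normalizer ((P : Subgroup G) : Set G)).index = Nat.card (Sylow p G) from
    P.card_eq_index_normalizer.symm] at hcard
  have hdN : Nat.card (P : Subgroup G) ∣
      Nat.card ↥(Subgroup.normalizer ((P : Subgroup G) : Set G)) :=
    Subgroup.card_dvd_of_le Subgroup.le_normalizer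
  obtain ⟨E, hE⟩ := hdN
  have hns : Nat.card (Sylow p G) = 1 + k * p := by
    have := Nat.card_pos (α := Sylow p G)
    rw [mul_comm] at hk
    omega
  rw [hE, hns] at hcard
  obtain ⟨a, ha⟩ := P.2.exists_card_eq
  have hPp : Nat.card (P : Subgroup G) = p := by
    have ha0 : a ≠ 0 := fun h0 => P.ne_bot_of_dvd_card hdvd (Subgroup.card_eq_one.1 (by
      rw [ha, h0, pow_zero]))
    rcases Nat.lt_or_ge a 2 with h2 | h2
    · rw [ha, show a = 1 by omega, pow_one]
    · exfalso
      have hE1 : 0 < E := Nat.pos_of_ne_zero fun h0 => by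
        rw [h0, mul_zero, zero_mul] at hcard
        exact Nat.card_pos.ne' hcard.symm
      have h3 : p ^ 2 * (1 + 1 * p) ≤ Nat.card (P : Subgroup G) * E * (1 + k * p) :=
        Nat.mul_le_mul ((ha ▸ Nat.pow_le_pow_right hp.pos h2).trans
          (Nat.le_mul_of_pos_right _ hE1))
          (Nat.add_le_add_left (Nat.mul_le_mul_right p hk1) 1)
      rw [hcard] at h3
      have : p ^ 2 * (1 + 1 * p) = p ^ 2 + p ^ 3 := by ring
      omega
  rw [hPp, mul_assoc] at hcard
  have hEk : E * k < p := by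
    by_contra h0
    push Not at h0
    have h1 : p * p * p ≤ p * (p * (E * k)) := by
      rw [mul_assoc]
      exact Nat.mul_le_mul_left p (Nat.mul_le_mul_left p h0)
    have h2 : p * (E * (1 + k * p)) = p * E + p * (p * (E * k)) := by ring
    have h3 : p ^ 3 = p * p * p := by ring
    omega
  obtain ⟨z, hH, hPz, -⟩ := exists_hypOne_of_sylow P hPp
  have hcent : cent z = Subgroup.zpowers z := by
    rcases Nat.lt_or_ge k 2 with h2 | h2
    · exact cent_eq_of_one hH (by rw [hns, show k = 1 by omega]; ring)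
    · exact cent_eq_of_lt hH hperf hcard.symm hEk h2
  have hC : Ctx p z := ⟨hp, hperf, hH.orderOf_x, hcent⟩
  refine hC.classification ?_
  rw [hns]
  have hE2 : 2 ≤ E := by
    have h1 := two_le_relIndex hH hperf
    have hle : cent z ≤ norm₁ z := DefectOne.cent_le_norm hH
    have h3 : Nat.card ↥(Subgroup.normalizer ((P : Subgroup G) : Set G)) =
        p * (cent z).relIndex (norm₁ z) := by
      rw [hPz, ← show Nat.card ↥((cent z).subgroupOf (norm₁ z)) = p by
        rw [Nat.card_congr (Subgroup.subgroupOfEquivOfLe hle).toEquiv, hcent, hH.card_zpowers]]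
      exact (Subgroup.card_mul_index ((cent z).subgroupOf (norm₁ z))).symm
    rw [hE, hPp] at h3
    rw [Nat.eq_of_mul_eq_mul_left hp.pos h3]
    exact h1
  have h4 : 2 * k ≤ E * k := Nat.mul_le_mul_right k hE2
  have h5 : 2 * k * p ≤ p * p := Nat.mul_le_mul_right p (by omega)
  have h6 : (p + 1) * (p + 2) = p * p + 3 * p + 2 := by ring
  have h7 : 2 * (1 + k * p) = 2 * k * p + 2 := by ring
  have := hp.two_le
  omega

end CfsgLib.BrauerRey
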