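import Cfsg.Agent.Lib.DefectOne.Principal
import Mathlib.GroupTheory.Transfer
import Mathlib.RingTheory.IntegralDomain

/-!
# Perfect groups with a self-centralising element of prime order
-/

set_option autoImplicit false

namespace CfsgLib.BrauerRey

open CfsgLib.DefectOne

universe u

variable {G : Type u} [Group G] [Finite G] {p : ℕ} {z : G}

/-- A perfect group with a self-centralising element of order `p`. -/
structure Ctx (p : ℕ) (z : G) : Prop where
  prime : p.Prime
  perfect : commutator G = ⊤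
  orderOf_z : orderOf z = p
  cent_eq : Subgroup.centralizer ({z} : Set G) = Subgroup.zpowers z

/-- Homomorphisms from a perfect group to a commutative group are trivial. -/
theorem hom_eq_one {A : Type*} [CommGroup A] (hperf : commutator G = ⊤) (f : G →* A) (g : G) :
    f g = 1 := by
  have h : (⊤ : Subgroup G) ≤ f.ker := hperf ▸ Abelianization.commutator_subset_ker f
  exact h (Subgroup.mem_top g)

namespace Ctx

variable (h : Ctx p z)

include h

theorem fact : Fact p.Prime := ⟨h.prime⟩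

theorem card_zpowers : Nat.card (Subgroup.zpowers z) = p := by
  rw [Nat.card_zpowers, h.orderOf_z]

theorem cent_card : Nat.card (cent z) = p := by
  show Nat.card (Subgroup.centralizer ({z} : Set G)) = p
  rw [h.cent_eq, h.card_zpowers]

theorem not_sq : ¬ p ^ 2 ∣ Nat.card G := by
  haveI := h.fact
  intro h2
  obtain ⟨P, hzP⟩ := (IsPGroup.of_card (p := p) (n := 1)
    (by rw [pow_one]; exact h.card_zpowers)).exists_le_sylow (G := G)
  have hP : (P : Subgroup G) ≤ Subgroup.zpowers z := by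
    haveI : Nontrivial ↥(P : Subgroup G) := (Subgroup.nontrivial_iff_ne_bot _).2
      (P.ne_bot_of_dvd_card (dvd_trans (dvd_pow_self p two_ne_zero) h2))
    obtain ⟨⟨c, hc⟩, hcne⟩ := @exists_ne _ P.2.center_nontrivial (1 : Subgroup.center ↥(P : Subgroup G))
    have hcz : (c : G) ∈ Subgroup.zpowers z := by
      rw [← h.cent_eq, Subgroup.mem_centralizer_singleton_iff]
      exact (congrArg Subtype.val
        (Subgroup.mem_center_iff.1 hc ⟨z, hzP (Subgroup.mem_zpowers z)⟩)).symm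
    have hgen : z ∈ Subgroup.zpowers (c : G) := by
      have heq : Subgroup.zpowers (c : G) = Subgroup.zpowers z := by
        refine Subgroup.eq_of_le_of_card_ge (Subgroup.zpowers_le.2 hcz) ?_
        rw [h.card_zpowers, Nat.card_zpowers]
        have hd := Subgroup.orderOf_dvd_natCard _ hcz
        rw [h.card_zpowers] at hd
        exact (((Nat.dvd_prime h.prime).1 hd).resolve_left fun e => hcne (by
          ext; exact orderOf_eq_one_iff.1 e)).ge
      exact heq ▸ Subgroup.mem_zpowers z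
    intro y hy
    rw [← h.cent_eq, Subgroup.mem_centralizer_singleton_iff]
    obtain ⟨i, rfl⟩ := hgen
    have hyc : Commute y (c : G) :=
      congrArg Subtype.val (Subgroup.mem_center_iff.1 hc ⟨y, hy⟩)
    exact (hyc.zpow_right i).eq
  have h3 := (Nat.le_of_dvd Nat.card_pos (P.pow_dvd_card_of_pow_dvd_card h2)).trans
    (Subgroup.card_le_of_le hP)
  rw [h.card_zpowers] at h3
  nlinarith [h.prime.two_le]

theorem hyp : HypOne p z := ⟨h.prime, h.orderOf_z, h.not_sq⟩

theorem exists_sylow : ∃ P : Sylow p G, (P : Subgroup G) = Subgroup.zpowers z := by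
  haveI := h.fact
  have hc : Nat.card (Subgroup.zpowers z) = p ^ (Nat.card G).factorization p := by
    rw [h.card_zpowers, h.hyp.factorization_eq_one, pow_one]
  exact ⟨Sylow.ofCard _ hc, rfl⟩

theorem regPart_eq_bot : regPart p z = ⊥ := by
  rw [Subgroup.eq_bot_iff_forall]
  intro g hg
  obtain ⟨hc, hr⟩ := h.hyp.mem_regPart_iff.1 hg
  have hd := Subgroup.orderOf_dvd_natCard _ (show g ∈ Subgroup.zpowers z from h.cent_eq ▸ hc)
  rw [h.card_zpowers] at hd
  rcases (Nat.dvd_prime h.prime).1 hd with e | e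
  · exact orderOf_eq_one_iff.1 e
  · exact absurd (e ▸ dvd_rfl) hr

/-- The elements of order divisible by `p` are the conjugates of the powers of `z`. -/
theorem exists_pow_of_dvd {g : G} (hg : p ∣ orderOf g) :
    ∃ c : G, ∃ i, ¬ p ∣ i ∧ c * g * c⁻¹ = z ^ i := by
  haveI := h.fact
  have hp := h.prime
  set y := g ^ (orderOf g / p)
  have hy : orderOf y = p := by
    rw [orderOf_pow_of_dvd (Nat.div_ne_zero_iff.2 ⟨hp.ne_zero, Nat.le_of_dvd (orderOf_pos g) hg⟩)
      (Nat.div_dvd_of_dvd hg), Nat.div_div_self hg (orderOf_pos g).ne']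
  have hcard : ∀ w : G, orderOf w = p →
      Nat.card (Subgroup.zpowers w) = p ^ (Nat.card G).factorization p := fun w hw => by
    rw [Nat.card_zpowers, hw, h.hyp.factorization_eq_one, pow_one]
  let P₁ : Sylow p G := Sylow.ofCard _ (hcard y hy)
  let P₂ : Sylow p G := Sylow.ofCard _ (hcard z h.orderOf_z)
  obtain ⟨c, hc⟩ := MulAction.exists_smul_eq G P₁ P₂
  have hmem : c * y * c⁻¹ ∈ Subgroup.zpowers z := by
    show c * y * c⁻¹ ∈ (P₂ : Subgroup G)
    rw [← hc, Sylow.coe_subgroup_smul]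
    exact ⟨y, Subgroup.mem_zpowers y, rfl⟩
  obtain ⟨j, -, hj⟩ := h.hyp.mem_zpowers_iff_pow.1 hmem
  have hjp : ¬ p ∣ j := fun hd => by
    rw [h.hyp.pow_eq_one_iff.2 hd, eq_comm, conj_eq_one_iff] at hj
    rw [hj, orderOf_one] at hy
    exact hp.ne_one hy.symm
  have hcg : Commute (c * g * c⁻¹) z := h.hyp.commute_of_commute_pow hjp (by
    rw [hj]; exact SemiconjBy.conj_iff.2 ((Commute.refl g).pow_right _))
  have hz : c * g * c⁻¹ ∈ Subgroup.zpowers z :=
    h.cent_eq ▸ Subgroup.mem_centralizer_singleton_iff.2 hcg.eq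
  obtain ⟨i, -, hi⟩ := h.hyp.mem_zpowers_iff_pow.1 hz
  refine ⟨c, i, fun hd => ?_, hi.symm⟩
  rw [h.hyp.pow_eq_one_iff.2 hd, eq_comm, conj_eq_one_iff] at hi
  rw [hi, orderOf_one] at hg
  exact hp.one_lt.ne' (Nat.dvd_one.1 hg)

theorem eq_one_of_commute {g : G} (hg : ¬ p ∣ orderOf g) {i : ℕ} (hi : ¬ p ∣ i)
    (hc : Commute g (z ^ i)) : g = 1 := by
  have hgz : g ∈ regPart p z :=
    h.hyp.mem_regPart_iff.2 ⟨mem_cent_iff.2 (h.hyp.commute_of_commute_pow hi hc), hg⟩
  rw [h.regPart_eq_bot] at hgz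
  exact Subgroup.mem_bot.1 hgz

theorem norm_not_le : ¬ norm₁ z ≤ cent z := by
  haveI := h.fact
  intro hle
  obtain ⟨P, hP⟩ := h.exists_sylow
  have hle' : Subgroup.normalizer ((P : Subgroup G) : Set G) ≤
      Subgroup.centralizer ((P : Subgroup G) : Set G) := by
    rw [hP, show Subgroup.centralizer ((Subgroup.zpowers z : Subgroup G) : Set G) = cent z by
      rw [Subgroup.zpowers_eq_closure, Subgroup.centralizer_closure]]
    exact hle
  have hc := MonoidHom.ker_transferSylow_isComplement' P hle'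
  have hcomm : ∀ a b : (P : Subgroup G), a * b = b * a := by
    rw [hP]
    rintro ⟨a, ha⟩ ⟨b, hb⟩
    obtain ⟨i, rfl⟩ := Subgroup.mem_zpowers_iff.1 ha
    obtain ⟨j, rfl⟩ := Subgroup.mem_zpowers_iff.1 hb
    exact Subtype.ext (zpow_mul_comm z i j)
  letI : CommGroup (P : Subgroup G) :=
    { (inferInstance : Group (P : Subgroup G)) with mul_comm := hcomm }
  have ht : (MonoidHom.transferSylow P hle').ker = ⊤ :=
    eq_top_iff.2 fun g _ => MonoidHom.mem_ker.2 (hom_eq_one (A := (P : Subgroup G)) h.perfect _ g)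
  rw [ht, Subgroup.isComplement'_top_left, hP, Subgroup.zpowers_eq_bot] at hc
  exact h.hyp.ne_one hc

/-- The complement `⟨y⟩` of `⟨z⟩` in its normaliser. -/
theorem exists_y : ∃ (y : G) (e t : ℕ), y ∈ norm₁ z ∧ orderOf y = e ∧ ¬ p ∣ e ∧ 2 ≤ e ∧
    1 ≤ t ∧ e * t + 1 = p ∧ Nat.card (norm₁ z) = p * e ∧ (cent z).relIndex (norm₁ z) = e := by
  haveI := h.fact
  have hp := h.prime
  obtain ⟨k, hk, hker⟩ := h.hyp.exists_expHom
  set e := (cent z).relIndex (norm₁ z) with he
  have hle : cent z ≤ norm₁ z := DefectOne.cent_le_norm h.hyp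
  have hkeq : k.ker = (cent z).subgroupOf (norm₁ z) := by
    ext n; rw [MonoidHom.mem_ker, hker, Subgroup.mem_subgroupOf]
  have hrange : Nat.card k.range = e := by
    rw [← Subgroup.index_ker, hkeq]; rfl
  have hN : Nat.card (norm₁ z) = p * e := by
    rw [← Subgroup.card_mul_index k.ker, hkeq]
    rw [Nat.card_congr (Subgroup.subgroupOfEquivOfLe hle).toEquiv, h.cent_card]
    rfl
  have hdvd : e ∣ p - 1 := by
    rw [← hrange, ← ZMod.card_units p, ← Nat.card_eq_fintype_card]
    exact Subgroup.card_subgroup_dvd_card _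
  have hp1 : 0 < p - 1 := by have := hp.two_le; omega
  have hep : ¬ p ∣ e := fun hd => by
    have := Nat.le_of_dvd hp1 (hd.trans hdvd)
    omega
  have he2 : 2 ≤ e := by
    by_contra hlt
    have he0 : 0 < e := Nat.pos_of_dvd_of_pos hdvd hp1
    have h1 : e = 1 := by omega
    exact h.norm_not_le (Subgroup.relIndex_eq_one.1 (he ▸ h1))
  obtain ⟨g, hg⟩ := IsCyclic.exists_generator (α := k.range)
  obtain ⟨m, hm⟩ := g.2
  have hog : orderOf g = e := by
    rw [orderOf_eq_card_of_forall_mem_zpowers hg, hrange]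
  have hd1 : e ∣ orderOf (m : G) := by
    have h1 := orderOf_map_dvd k m
    rw [hm, Subgroup.orderOf_coe, hog] at h1
    rwa [Subgroup.orderOf_coe]
  have hmp : ¬ p ∣ orderOf (m : G) := fun hd => by
    obtain ⟨c, i, hi, hc⟩ := h.exists_pow_of_dvd hd
    have hop : orderOf (m : G) = p := by
      rw [show orderOf (m : G) = orderOf (c * m * c⁻¹) from
        (orderOf_injective (MulAut.conj c).toMonoidHom (MulAut.conj c).injective _).symm, hc,
        h.hyp.orderOf_pow hi]
    rw [hop] at hd1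
    rcases (Nat.dvd_prime hp).1 hd1 with e1 | e1
    · omega
    · exact hep (e1 ▸ dvd_rfl)
  have hd2 : orderOf (m : G) ∣ p * e := hN ▸ Subgroup.orderOf_dvd_natCard _ m.2
  have ho : orderOf (m : G) = e := Nat.dvd_antisymm
    (((hp.coprime_iff_not_dvd.2 hmp).symm).dvd_of_dvd_mul_left hd2) hd1
  obtain ⟨t, ht⟩ := hdvd
  refine ⟨m, e, t, m.2, ho, hep, he2, ?_, by omega, hN, rfl⟩
  rcases Nat.eq_zero_or_pos t with h0 | h0
  · rw [h0, mul_zero] at ht; omega
  · exact h0

theorem exists_n {e : ℕ} (hN : Nat.card (norm₁ z) = p * e) :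
    ∃ n, Nat.card (Sylow p G) = 1 + n * p ∧ Nat.card G = p * (e * (1 + n * p)) := by
  haveI := h.fact
  obtain ⟨P, hP⟩ := h.exists_sylow
  have hm := card_sylow_modEq_one p G
  obtain ⟨n, hn⟩ := (Nat.modEq_iff_dvd' Nat.card_pos).1 hm.symm
  refine ⟨n, ?_, ?_⟩
  · have := Nat.card_pos (α := Sylow p G)
    rw [mul_comm]
    omega
  · have h1 : Nat.card (Sylow p G) = (norm₁ z).index :=
      (Sylow.card_eq_index_normalizer P).trans (by
        show (Subgroup.normalizer ((P : Subgroup G) : Set G)).index = _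
        rw [hP])
    rw [← Subgroup.card_mul_index (norm₁ z), hN, ← h1]
    have := Nat.card_pos (α := Sylow p G)
    rw [mul_assoc, show 1 + n * p = Nat.card (Sylow p G) by rw [mul_comm]; omega]

end Ctx

/-- All the numerical data. -/
structure Num (p : ℕ) (z y : G) (e t n : ℕ) : Prop where
  ctx : Ctx p z
  hy : y ∈ norm₁ z
  orderOf_y : orderOf y = e
  hep : ¬ p ∣ e
  he : 2 ≤ e
  ht : 1 ≤ t
  het : e * t + 1 = p
  card_norm : Nat.card (norm₁ z) = p * e
  rel : (cent z).relIndex (norm₁ z) = e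
  card_sylow : Nat.card (Sylow p G) = 1 + n * p
  card_eq : Nat.card G = p * (e * (1 + n * p))
  hn : 1 ≤ n

theorem Ctx.exists_num (h : Ctx p z) : ∃ (y : G) (e t n : ℕ), Num p z y e t n := by
  haveI := h.fact
  obtain ⟨y, e, t, h1, h2, h3, h4, h5, h6, h7, h8⟩ := h.exists_y
  obtain ⟨n, h9, h10⟩ := h.exists_n h7
  refine ⟨y, e, t, n, h, h1, h2, h3, h4, h5, h6, h7, h8, h9, h10, ?_⟩
  by_contra hn
  obtain rfl : n = 0 := by omega
  -- `⟨z⟩` is normal
  have htop : norm₁ z = ⊤ := Subgroup.eq_top_of_card_eq _ (by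
    rw [h7, h10]; ring)
  obtain ⟨k, -, hker⟩ := h.hyp.exists_expHom
  refine h.norm_not_le fun g hg => (hker ⟨g, hg⟩).1 ?_
  have e1 : G ≃* norm₁ z := Subgroup.topEquiv.symm.trans (MulEquiv.subgroupCongr htop.symm)
  have := hom_eq_one h.perfect (k.comp e1.toMonoidHom) (e1.symm ⟨g, hg⟩)
  simpa using this

namespace Num

variable {y : G} {e t n : ℕ} (h : Num p z y e t n)

include h

theorem p_odd : 2 < p := by
  have := Nat.mul_le_mul h.he h.ht
  have := h.het
  omega

theorem not_dvd_orderOf {q : G} (hq : q ∈ Subgroup.zpowers y) : ¬ p ∣ orderOf q := fun hd => by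
  have h1 := Subgroup.orderOf_dvd_natCard _ hq
  rw [Nat.card_zpowers, h.orderOf_y] at h1
  exact h.hep (hd.trans h1)

theorem mem_norm {q : G} (hq : q ∈ Subgroup.zpowers y) : q ∈ norm₁ z :=
  Subgroup.zpowers_le.2 h.hy hq

/-- The coset of a non-trivial element of the complement consists of conjugates. -/
theorem isConj_mul {q : G} (hq : q ∈ Subgroup.zpowers y) (hq1 : q ≠ 1) {x : G}
    (hx : x ∈ Subgroup.zpowers z) : IsConj q (x * q) := by
  have hqn := h.mem_norm hq
  let f : Subgroup.zpowers z → Subgroup.zpowers z := fun a =>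
    ⟨(a : G) * (q * (a : G)⁻¹ * q⁻¹), mul_mem a.2
      ((Subgroup.mem_normalizer_iff.1 hqn _).1 (inv_mem a.2))⟩
  have hf : Function.Injective f := by
    intro a b hab
    have h1 : (a : G) * (q * (a : G)⁻¹ * q⁻¹) = (b : G) * (q * (b : G)⁻¹ * q⁻¹) :=
      congrArg Subtype.val hab
    have h2 : Commute q ((b : G)⁻¹ * a) := by
      show q * ((b : G)⁻¹ * a) = (b : G)⁻¹ * a * q
      calc q * ((b : G)⁻¹ * a)
          = (b : G)⁻¹ * ((b : G) * (q * (b : G)⁻¹ * q⁻¹)) * q * a := by group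
        _ = (b : G)⁻¹ * ((a : G) * (q * (a : G)⁻¹ * q⁻¹)) * q * a := by rw [h1]
        _ = (b : G)⁻¹ * a * q := by group
    obtain ⟨i, -, hi⟩ := h.ctx.hyp.mem_zpowers_iff_pow.1 (mul_mem (inv_mem b.2) a.2)
    by_cases hip : p ∣ i
    · rw [h.ctx.hyp.pow_eq_one_iff.2 hip, eq_comm, inv_mul_eq_one] at hi
      exact Subtype.ext hi.symm
    · exact absurd (h.ctx.eq_one_of_commute (h.not_dvd_orderOf hq) hip (hi ▸ h2)) hq1
  obtain ⟨a, ha⟩ := (Finite.injective_iff_surjective.1 hf) ⟨x, hx⟩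
  refine isConj_iff.2 ⟨(a : G), ?_⟩
  rw [← show (a : G) * (q * (a : G)⁻¹ * q⁻¹) = x from congrArg Subtype.val ha]
  group

theorem zpowers_y_inter {q : G} (hq : q ∈ Subgroup.zpowers y) (hz : q ∈ Subgroup.zpowers z) :
    q = 1 := by
  have hd := Subgroup.orderOf_dvd_natCard _ hz
  rw [h.ctx.card_zpowers] at hd
  rcases (Nat.dvd_prime h.ctx.prime).1 hd with e1 | e1
  · exact orderOf_eq_one_iff.1 e1
  · exact absurd (e1 ▸ dvd_rfl) (h.not_dvd_orderOf hq)

/-- The normaliser is the product of the two cyclic groups. -/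
theorem exists_decomp {g : G} (hg : g ∈ norm₁ z) :
    ∃ x ∈ Subgroup.zpowers z, ∃ q ∈ Subgroup.zpowers y, g = x * q := by
  let f : Subgroup.zpowers z × Subgroup.zpowers y → norm₁ z := fun r =>
    ⟨(r.1 : G) * r.2, mul_mem (Subgroup.zpowers_le.2
      (Subgroup.le_normalizer (Subgroup.mem_zpowers z)) r.1.2) (h.mem_norm r.2.2)⟩
  have hf : Function.Bijective f := by
    rw [Nat.bijective_iff_injective_and_card, Nat.card_prod, h.ctx.card_zpowers, Nat.card_zpowers,
      h.orderOf_y, h.card_norm]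
    refine ⟨fun a b hab => ?_, rfl⟩
    have h1 : (a.1 : G) * a.2 = b.1 * b.2 := congrArg Subtype.val hab
    have h2 : (b.1 : G)⁻¹ * a.1 = b.2 * (a.2 : G)⁻¹ := by
      rw [inv_mul_eq_iff_eq_mul, ← mul_assoc, ← h1, mul_inv_cancel_right]
    have h3 := h.zpowers_y_inter (q := (b.2 : G) * (a.2 : G)⁻¹) (mul_mem b.2.2 (inv_mem a.2.2))
      (h2 ▸ mul_mem (inv_mem b.1.2) a.1.2)
    refine Prod.ext (Subtype.ext ?_) (Subtype.ext (mul_inv_eq_one.1 h3).symm)
    rw [h3, inv_mul_eq_one] at h2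
    exact h2.symm
  obtain ⟨⟨x, q⟩, hxq⟩ := hf.2 ⟨g, hg⟩
  exact ⟨x, x.2, q, q.2, (congrArg Subtype.val hxq).symm⟩

end Num

end CfsgLib.BrauerRey
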