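import Cfsg.Prelude.Def_Perm
import Cfsg.Agent.Lib.Invol.Counting
import Cfsg.Agent.Lib.SharpThree.Coord

/-!
# Groups whose elements of even order form one class of involutions with small centralisers
-/

set_option autoImplicit false

namespace CfsgLib.BrauerRey

open scoped Classical

universe u

variable {G : Type u} [Group G] [Finite G]

theorem cent_conj (g x : G) : Subgroup.centralizer ({g * x * g⁻¹} : Set G) =
    (Subgroup.centralizer ({x} : Set G)).map (MulAut.conj g).toMonoidHom := by
  ext a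
  rw [Subgroup.mem_centralizer_singleton_iff]
  constructor
  · intro ha
    refine ⟨g⁻¹ * a * g, Subgroup.mem_centralizer_singleton_iff.2 ?_, by simp [mul_assoc]⟩
    calc g⁻¹ * a * g * x = g⁻¹ * (a * (g * x * g⁻¹)) * g := by group
      _ = g⁻¹ * (g * x * g⁻¹ * a) * g := by rw [ha]
      _ = x * (g⁻¹ * a * g) := by group
  · rintro ⟨b, hb, rfl⟩
    show g * b * g⁻¹ * (g * x * g⁻¹) = g * x * g⁻¹ * (g * b * g⁻¹)
    calc g * b * g⁻¹ * (g * x * g⁻¹) = g * (b * x) * g⁻¹ := by group
      _ = g * (x * b) * g⁻¹ := by rw [Subgroup.mem_centralizer_singleton_iff.1 hb]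
      _ = g * x * g⁻¹ * (g * b * g⁻¹) := by group

theorem card_cent_of_isConj {a b : G} (h : IsConj a b) :
    Nat.card (Subgroup.centralizer ({b} : Set G)) = Nat.card (Subgroup.centralizer ({a} : Set G)) := by
  obtain ⟨g, rfl⟩ := isConj_iff.1 h
  rw [cent_conj, Subgroup.card_map_of_injective (MulAut.conj g).injective]

/-- The recognition of `PSL₂(2^m)`. -/
theorem sharp_group {u : G} {m p : ℕ} (hu2 : orderOf u = 2)
    (hC : Nat.card (Subgroup.centralizer ({u} : Set G)) = 2 ^ m) (hm : 4 ≤ 2 ^ m)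
    (hp : p = 2 ^ m + 1) (hG : Nat.card G = p * (2 ^ m * (2 ^ m - 1)))
    (hinv : ∀ g : G, 2 ∣ orderOf g → IsConj u g)
    (hcent : ∀ g : G, g ≠ 1 → ¬ p ∣ orderOf g → ¬ IsConj u g →
      2 ^ m - 1 ≤ Nat.card (Subgroup.centralizer ({g} : Set G))) :
    ∃ (F : Type) (_ : Field F) (_ : Fintype F), Fintype.card F = 2 ^ m ∧
      Nonempty (G ≃* Matrix.ProjectiveSpecialLinearGroup (Fin 2) F) := by
  haveI : Fact (Nat.Prime 2) := ⟨Nat.prime_two⟩
  set q := 2 ^ m with hq
  have hm0 : m ≠ 0 := fun h => by rw [h, pow_zero] at hq; omega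
  have hqe : 2 ∣ q := hq ▸ dvd_pow_self 2 hm0
  have hord : ∀ x : G, IsConj u x → orderOf x = 2 := fun x hx => by
    obtain ⟨g, rfl⟩ := isConj_iff.1 hx
    rw [show orderOf (g * u * g⁻¹) = orderOf u from
      orderOf_injective (MulAut.conj g).toMonoidHom (MulAut.conj g).injective _, hu2]
  have hcard : ∀ x : G, IsConj u x → Nat.card (Subgroup.centralizer ({x} : Set G)) = q :=
    fun x hx => (card_cent_of_isConj hx).trans hC
  -- elements of the centralisers
  have hmem : ∀ x : G, IsConj u x → ∀ s ∈ Subgroup.centralizer ({x} : Set G), s ≠ 1 → IsConj u s := by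
    intro x hx s hs hs1
    refine hinv s ?_
    have hd := Subgroup.orderOf_dvd_natCard _ hs
    rw [hcard x hx] at hd
    obtain ⟨j, -, hj⟩ := (Nat.dvd_prime_pow Nat.prime_two).1 hd
    rw [hj]
    exact dvd_pow_self 2 fun h => hs1 (orderOf_eq_one_iff.1 (by rw [hj, h, pow_zero]))
  have hTI : ∀ x : G, IsConj u x → ∀ s ∈ Subgroup.centralizer ({x} : Set G), s ≠ 1 →
      Subgroup.centralizer ({s} : Set G) = Subgroup.centralizer ({x} : Set G) := by
    intro x hx s hs hs1
    have hsq : ∀ a ∈ Subgroup.centralizer ({x} : Set G), a * a = 1 := fun a ha => by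
      by_cases ha1 : a = 1
      · rw [ha1, one_mul]
      · rw [← sq, ← hord a (hmem x hx a ha ha1), pow_orderOf_eq_one]
    refine (Subgroup.eq_of_le_of_card_ge (fun a ha => ?_) ?_).symm
    · rw [Subgroup.mem_centralizer_singleton_iff]
      have h1 := hsq _ (mul_mem ha hs)
      calc a * s = (a * s)⁻¹ := (inv_eq_of_mul_eq_one_right h1).symm
        _ = s⁻¹ * a⁻¹ := mul_inv_rev a s
        _ = s * a := by
          rw [inv_eq_of_mul_eq_one_right (hsq s hs), inv_eq_of_mul_eq_one_right (hsq a ha)]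
    · rw [hcard x hx, hcard s (hmem x hx s hs hs1)]
  -- the Sylow 2-subgroups
  obtain ⟨P₀, hP₀⟩ : ∃ P : Sylow 2 G, (P : Subgroup G) = Subgroup.centralizer ({u} : Set G) := by
    obtain ⟨P, hle⟩ := (IsPGroup.of_card (p := 2) (n := m) hC).exists_le_sylow (G := G)
    refine ⟨P, (Subgroup.eq_of_le_of_card_ge hle ?_).symm⟩
    obtain ⟨j, hj⟩ := P.2.exists_card_eq
    have hd := Subgroup.card_subgroup_dvd_card (P : Subgroup G)
    rw [hj, hG, show p * (q * (q - 1)) = p * (q - 1) * q by ring] at hd
    have hodd : Odd (p * (q - 1)) := by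
      obtain ⟨r, hr⟩ := hqe
      exact (show Odd p from ⟨r, by omega⟩).mul ⟨r - 1, by omega⟩
    rw [hj, hC]
    exact Nat.le_of_dvd (by omega)
      ((Nat.Coprime.pow_left _ (Nat.coprime_two_left.2 hodd)).dvd_of_dvd_mul_left hd)
  have hconjP : ∀ g : G, ((g • P₀ : Sylow 2 G) : Subgroup G) =
      Subgroup.centralizer ({g * u * g⁻¹} : Set G) := fun g => by
    rw [cent_conj, Sylow.coe_subgroup_smul, hP₀]
    rfl
  have hsyl : ∀ (P : Sylow 2 G) (s : G), s ∈ (P : Subgroup G) → s ≠ 1 →
      IsConj u s ∧ (P : Subgroup G) = Subgroup.centralizer ({s} : Set G) := by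
    intro P s hs hs1
    obtain ⟨g, rfl⟩ := MulAction.exists_smul_eq G P₀ P
    rw [hconjP] at hs ⊢
    have hx : IsConj u (g * u * g⁻¹) := isConj_iff.2 ⟨g, rfl⟩
    exact ⟨hmem _ hx s hs hs1, (hTI _ hx s hs hs1).symm⟩
  have hPcard : ∀ P : Sylow 2 G, Nat.card (P : Subgroup G) = q := fun P => by
    obtain ⟨g, rfl⟩ := MulAction.exists_smul_eq G P₀ P
    rw [hconjP]
    exact hcard _ (isConj_iff.2 ⟨g, rfl⟩)
  -- an involution fixes only its own Sylow subgroup
  have hfix : ∀ (Q : Sylow 2 G) (s : G), IsConj u s → s • Q = Q →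
      (Q : Subgroup G) = Subgroup.centralizer ({s} : Set G) := by
    intro Q s hs hsQ
    have hs1 : s ≠ 1 := fun h => by
      have := hord s hs
      rw [h, orderOf_one] at this
      norm_num at this
    refine (hsyl Q s ?_ hs1).2
    have hsp : IsPGroup 2 (Subgroup.zpowers s) :=
      IsPGroup.of_card (p := 2) (n := 1) (by rw [Nat.card_zpowers, hord s hs, pow_one])
    have h1 : s ∈ Subgroup.zpowers s ⊓ Subgroup.normalizer ((Q : Subgroup G) : Set G) :=
      ⟨Subgroup.mem_zpowers s, Sylow.smul_eq_iff_mem_normalizer.1 hsQ⟩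
    exact ((hsp.inf_normalizer_sylow Q).le h1).2
  haveI := Fintype.ofFinite (Sylow 2 G)
  have hΩ : Fintype.card (Sylow 2 G) = q + 1 := by
    have h1 : Nat.card {x : G // IsConj u x} = p * (q - 1) := by
      rw [CfsgLib.Invol.card_isConj_eq_index]
      refine Nat.eq_of_mul_eq_mul_left (show 0 < q by omega) ?_
      have h2 := Subgroup.card_mul_index (Subgroup.centralizer ({u} : Set G))
      rw [hC] at h2
      rw [h2, hG]
      ring
    have h2 : Nat.card {x : G // IsConj u x} = Fintype.card (Sylow 2 G) * (q - 1) := by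
      rw [← Nat.card_eq_of_bijective
        (fun r : (P : Sylow 2 G) × {x : (P : Subgroup G) // x ≠ 1} =>
          (⟨((r.2 : (r.1 : Subgroup G)) : G),
            (hsyl r.1 _ r.2.1.2 fun h => r.2.2 (Subtype.ext h)).1⟩ : {x : G // IsConj u x}))
        ⟨?_, ?_⟩, Nat.card_sigma]
      · rw [Finset.sum_congr rfl (g := fun _ => q - 1) fun P _ => ?_, Finset.sum_const,
          Finset.card_univ, smul_eq_mul]
        haveI := Fintype.ofFinite (P : Subgroup G)
        rw [Nat.card_eq_fintype_card, Fintype.card_subtype_compl, Fintype.card_subtype_eq,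
          ← Nat.card_eq_fintype_card, hPcard]
      · rintro ⟨P, ⟨x, hx⟩, hx1⟩ ⟨Q, ⟨x', hx'⟩, hx1'⟩ he
        obtain rfl : x = x' := congrArg Subtype.val he
        have hx0 : x ≠ 1 := fun h => hx1 (Subtype.ext h)
        obtain rfl : P = Q := Sylow.ext (((hsyl P x hx hx0).2).trans (hsyl Q x hx' hx0).2.symm)
        rfl
      · rintro ⟨x, hx⟩
        obtain ⟨g, hg⟩ := isConj_iff.1 hx
        have hx1 : x ≠ 1 := fun h => by
          have := hord x hx
          rw [h, orderOf_one] at this
          norm_num at this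
        exact ⟨⟨g • P₀, ⟨x, by
          rw [hconjP, hg]; exact Subgroup.mem_centralizer_singleton_iff.2 rfl⟩,
          fun h => hx1 (congrArg Subtype.val h)⟩, rfl⟩
    rw [h1] at h2
    rw [← hp]
    exact (Nat.eq_of_mul_eq_mul_right (by omega) h2).symm
  -- regularity
  have hreg : ∀ A B C : Sylow 2 G, B ≠ A → C ≠ A →
      ∃ s ∈ (A : Subgroup G), s • B = C ∧ ∀ r ∈ (A : Subgroup G), r • B = C → r = s := by
    intro A B C hB hCA
    have hfree : ∀ D : Sylow 2 G, D ≠ A → ∀ s ∈ (A : Subgroup G), s • D = D → s = 1 := by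
      intro D hD s hs hsD
      by_contra hs1
      obtain ⟨h1, h2⟩ := hsyl A s hs hs1
      exact hD (Sylow.ext ((hfix D s h1 hsD).trans h2.symm))
    let f : ↥(A : Subgroup G) → {D : Sylow 2 G // D ≠ A} := fun s =>
      ⟨(s : G) • B, fun e => hB ((MulAction.injective (s : G)) (e.trans
        (Sylow.smul_eq_iff_mem_normalizer.2 (Subgroup.le_normalizer s.2)).symm))⟩
    have hinj : Function.Injective f := by
      intro s r hsr
      have h1 : (s : G) • B = (r : G) • B := congrArg Subtype.val hsr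
      have h2 := hfree B hB ((r : G)⁻¹ * s) (mul_mem (inv_mem r.2) s.2)
        (by rw [mul_smul, h1, inv_smul_smul])
      exact Subtype.ext (inv_mul_eq_one.1 h2).symm
    have hbij : Function.Bijective f := by
      rw [Nat.bijective_iff_injective_and_card]
      refine ⟨hinj, ?_⟩
      rw [hPcard, Nat.card_eq_fintype_card, Fintype.card_subtype_compl, Fintype.card_subtype_eq, hΩ]
      omega
    obtain ⟨s, hs⟩ := hbij.2 ⟨C, hCA⟩
    refine ⟨s, s.2, congrArg Subtype.val hs, fun r hr hrB => ?_⟩
    have := hinj (a₁ := ⟨r, hr⟩) (a₂ := s) (by rw [hs]; exact Subtype.ext hrB)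
    exact congrArg Subtype.val this
  have hsharp : ∀ x : Fin 3 ↪ Sylow 2 G, MulAction.stabilizer G x = ⊥ := by
    intro x
    rw [Subgroup.eq_bot_iff_forall]
    intro g hg
    have hx : ∀ i, g • x i = x i := fun i => congrArg (fun e : Fin 3 ↪ Sylow 2 G => e i) hg
    have hne : ∀ i j, i ≠ j → x i ≠ x j := fun i j h e => h (x.injective e)
    obtain ⟨s, hs, hsB, huniq⟩ := hreg (x 0) (x 1) (x 2) (hne _ _ (by decide)) (hne _ _ (by decide))
    have hs1 : s ≠ 1 := fun h => hne 1 2 (by decide) (by rw [h, one_smul] at hsB; exact hsB)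
    have hN := Sylow.smul_eq_iff_mem_normalizer.1 (hx 0)
    have h1 := huniq (g * s * g⁻¹) ((Subgroup.mem_normalizer_iff.1 hN s).1 hs) (by
      rw [mul_smul, mul_smul, show g⁻¹ • x 1 = x 1 from inv_smul_eq_iff.2 (hx 1).symm, hsB, hx 2])
    have hgA : g ∈ ((x 0 : Sylow 2 G) : Subgroup G) := by
      rw [(hsyl _ s hs hs1).2, Subgroup.mem_centralizer_singleton_iff]
      exact mul_inv_eq_iff_eq_mul.1 h1
    by_contra hg1
    obtain ⟨h2, h3⟩ := hsyl _ g hgA hg1
    exact hne 1 0 (by decide) (Sylow.ext ((hfix (x 1) g h2 (hx 1)).trans h3.symm))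
  have hS3 : CfsgLib.SharpThree.IsS3 G (Sylow 2 G) := by
    refine ⟨⟨fun x x' => ?_⟩, hsharp⟩
    suffices MulAction.orbit G x = Set.univ by
      have : x' ∈ MulAction.orbit G x := this ▸ Set.mem_univ x'
      exact this
    haveI := Fintype.ofFinite (MulAction.orbit G x)
    cases nonempty_fintype G
    refine Set.eq_univ_iff_forall.2 ((Set.toFinset_eq_univ (s := MulAction.orbit G x)).1
      ((Finset.card_eq_iff_eq_univ _).1 ?_) ▸ Set.mem_univ)
    rw [Set.toFinset_card, Fintype.card_embedding_eq, hΩ, Fintype.card_fin]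
    haveI := Fintype.ofFinite (MulAction.stabilizer G x)
    have h1 := MulAction.card_orbit_mul_card_stabilizer_eq_card_group G x
    rw [← Nat.card_eq_fintype_card (α := MulAction.stabilizer G x), hsharp x,
      Subgroup.card_bot, mul_one, ← Nat.card_eq_fintype_card (α := G), hG, hp] at h1
    rw [h1, show (q + 1).descFactorial 3 = (q + 1) * (q * (q - 1)) by
      rw [Nat.succ_descFactorial_succ, Nat.descFactorial_succ, Nat.descFactorial_one]; ring]
  -- the two-point stabilisers
  obtain ⟨a, b, c, hab, hac, hbc⟩ := (Fintype.two_lt_card_iff (α := Sylow 2 G)).1 (by omega)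
  obtain ⟨s, hsa, hsb, hsc⟩ := hS3.exists_three hab hac hbc hab.symm hbc hac
  have hH := hS3.card_pair_stabilizer hab (by omega)
  have hM : ∀ h h' : G, h • a = a → h • b = b → h' • a = a → h' • b = b → h * h' = h' * h := by
    intro h h' ha hb ha' hb'
    rcases eq_or_ne h 1 with rfl | h1
    · rw [one_mul, mul_one]
    have hdiv : orderOf h ∣ q - 1 := by
      have := Subgroup.orderOf_dvd_natCard _
        (show h ∈ MulAction.stabilizer G a ⊓ MulAction.stabilizer G b from ⟨ha, hb⟩)
      rwa [show Nat.card ↥(MulAction.stabilizer G a ⊓ MulAction.stabilizer G b) = q - 1 by omega]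
        at this
    have hodd : ¬ 2 ∣ orderOf h := fun hd => by
      have := hd.trans hdiv
      omega
    have hnu : ¬ IsConj u h := fun hc => hodd (by rw [hord h hc])
    have hnp : ¬ p ∣ orderOf h := fun hd => by
      have := Nat.le_of_dvd (by omega) (hd.trans hdiv)
      omega
    have hle : Subgroup.centralizer ({h} : Set G) ≤
        MulAction.stabilizer G a ⊓ MulAction.stabilizer G b := by
      intro x hx
      rw [Subgroup.mem_centralizer_singleton_iff] at hx
      have hxf : ∀ d : Sylow 2 G, h • d = d → h • (x • d) = x • d := fun d hd => by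
        rw [← mul_smul, ← hx, mul_smul, hd]
      rcases hS3.fix_subset h1 hab ha hb (hxf a ha) with e1 | e1
      · refine ⟨e1, ?_⟩
        rcases hS3.fix_subset h1 hab ha hb (hxf b hb) with e2 | e2
        · exact absurd (MulAction.injective x (e2.trans e1.symm)) hab.symm
        · exact e2
      · exfalso
        have e2 : x • b = a := by
          rcases hS3.fix_subset h1 hab ha hb (hxf b hb) with e2 | e2
          · exact e2
          · exact absurd (MulAction.injective x (e1.trans e2.symm)) hab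
        have hev : 2 ∣ orderOf x := by
          by_contra ho
          obtain ⟨j, hj⟩ := Nat.odd_iff.2 (Nat.two_dvd_ne_zero.1 ho)
          have h2 : ∀ i : ℕ, x ^ (2 * i) • a = a := fun i => by
            induction i with
            | zero => rw [mul_zero, pow_zero, one_smul]
            | succ i ih => rw [mul_add, mul_one, pow_add, mul_smul, sq, mul_smul, e1, e2, ih]
          have h3 := pow_orderOf_eq_one x
          rw [hj, pow_succ'] at h3
          have h4 := congrArg (· • a) h3
          simp only [mul_smul, h2, one_smul] at h4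
          exact hab (h4.symm.trans e1)
        have hxu := hinv x hev
        have hd := Subgroup.orderOf_dvd_natCard _
          (show h ∈ Subgroup.centralizer ({x} : Set G) from
            Subgroup.mem_centralizer_singleton_iff.2 hx.symm)
        rw [hcard x hxu] at hd
        obtain ⟨j, -, hj⟩ := (Nat.dvd_prime_pow Nat.prime_two).1 hd
        refine hodd (hj ▸ dvd_pow_self 2 fun h0 => h1 (orderOf_eq_one_iff.1 ?_))
        rw [hj, h0, pow_zero]
    have heq := Subgroup.eq_of_le_of_card_ge hle (by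
      have := hcent h h1 hnp hnu
      omega)
    have : h' ∈ Subgroup.centralizer ({h} : Set G) := heq ▸ ⟨ha', hb'⟩
    exact (Subgroup.mem_centralizer_singleton_iff.1 this).symm
  obtain ⟨F, iF, iFF, hF, ⟨φ⟩⟩ := hS3.exists_mulEquiv_pgl hab hac hbc hsa hsb hsc hM
  have hFq : Fintype.card F = q := by omega
  refine ⟨F, iF, iFF, hFq, ⟨φ.trans (MulEquiv.ofBijective
    Matrix.ProjectiveSpecialLinearGroup.toPGL
    ⟨Matrix.ProjectiveSpecialLinearGroup.toPGL_injective,
      Matrix.ProjectiveSpecialLinearGroup.toPGL_surj_of_roots fun r => ?_⟩).symm⟩⟩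
  refine ⟨r ^ 2 ^ (m - 1), Units.ext ?_⟩
  rw [Fintype.card_fin, Units.val_pow_eq_pow_val, Units.val_pow_eq_pow_val, ← pow_mul, ← pow_succ,
    Nat.sub_add_cancel (Nat.pos_of_ne_zero hm0), ← hq, ← hFq]
  exact FiniteField.pow_card _

end CfsgLib.BrauerRey
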