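import Cfsg.Agent.Lib.BrauerRey.Bound
import Cfsg.Agent.Lib.BrauerRey.SharpGroup

/-!
# The case of two exceptional degrees: `PSL₂(2^m)`
-/

set_option autoImplicit false

namespace CfsgLib.BrauerRey

open Cfsg CfsgLib.DefectOne
open scoped ComplexConjugate Classical

universe u

variable {G : Type u} [Group G] [Finite G] {p : ℕ} [Fact p.Prime] {z y : G} {e t n : ℕ}
  {X Y : Finset (IrrCharacter G)} {σ : IrrCharacter G → ℤ} {δ : ℤ} {f₀ : ℕ}
  {w v : ℕ} {Xp Xm : Finset (IrrCharacter G)}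

namespace Neg

variable (N : Neg p z y e t n X Y σ δ f₀ w v Xp Xm) {u : G} (hu : u ∈ Subgroup.zpowers y)
  (hu2 : orderOf u = 2)

include N hu hu2

/-- The values at a further element of order prime to `p`. -/
theorem values_two (he : e = 2) (k : IrrCharacter G → ℕ)
    (hk : ∀ χ ∈ offBlock X Y, deg χ = p * k χ) {M : IrrCharacter G} (hM : Xm = {M}) {g : G}
    (hg1 : g ≠ 1) (hgp : ¬ p ∣ orderOf g) (hgu : ¬ IsConj u g) :
    (M : G → ℂ) g = 1 ∧ (∀ θ ∈ Y, (θ : G → ℂ) g = 0) ∧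
      ∑ χ ∈ offBlock X Y, (k χ : ℂ) * (χ : G → ℂ) g = -1 := by
  have D := N.degs
  obtain ⟨hw, hnt, -⟩ := N.w_one hu hu2 k hk
  have hu1 := N.u_ne hu hu2
  obtain ⟨θ, hθ⟩ := N.exists_theta
  have hXp : Xp = ∅ := by
    have hrel := N.rel
    rw [hw, one_mul] at hrel
    have ht := D.t2
    have : Xp.card * t = 0 := by omega
    exact Finset.card_eq_zero.1 ((Nat.mul_eq_zero.1 this).resolve_right (by omega))
  have h1 := D.relation hθ hgp
  rw [hXp, hM, Finset.sum_empty, Finset.sum_singleton, N.hδ] at h1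
  push_cast at h1
  have hθu : (θ : G → ℂ) u = -1 := by
    have h := N.rel_q hθ hu hu1
    rw [hXp, Finset.sum_empty] at h
    linear_combination h
  have h2 := CfsgLib.Char.sum_apply_one_mul (G := G) g
  rw [if_neg hg1] at h2
  simp only [← deg_cast] at h2
  rw [sum_split D, deg_principal, CfsgLib.Char.principalIrr_apply, hXp, hM, Finset.sum_empty,
    Finset.sum_singleton, (D.minus M (hM ▸ Finset.mem_singleton_self M)).2,
    Finset.sum_congr rfl (g := fun _ => (v : ℂ) * (θ : G → ℂ) g) (s₁ := Y) (fun χ hχ => by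
      rw [D.blk.deg_Y χ hχ, N.hf, D.blk.eq_Y χ hχ θ hθ g hgp]),
    Finset.sum_congr rfl (g := fun χ => (p : ℂ) * ((k χ : ℂ) * (χ : G → ℂ) g))
      (s₁ := offBlock X Y) (fun χ hχ => by rw [hk χ hχ]; push_cast; ring),
    Finset.sum_const, D.blk.card_Y, nsmul_eq_mul, ← Finset.mul_sum] at h2
  have h3 := CfsgLib.Char.sum_mul_conj g u
  rw [if_neg fun h => hgu h.symm, sum_split D, hXp, hM, Finset.sum_empty, Finset.sum_singleton,
    N.vanish_minus (χ := M) (by rw [hM]; exact Finset.mem_singleton_self M) hu hu1,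
    Finset.sum_congr rfl (g := fun _ => -(θ : G → ℂ) g) (s₁ := Y) (fun χ hχ => by
      rw [D.blk.eq_Y χ hχ θ hθ g hgp, D.blk.eq_Y χ hχ θ hθ u (N.num.not_dvd_orderOf hu), hθu,
        map_neg, map_one, mul_neg, mul_one]),
    Finset.sum_congr rfl (g := fun χ => (k χ : ℂ) * (χ : G → ℂ) g) (s₁ := offBlock X Y)
      (fun χ hχ => by rw [N.val_off_q k hk hu hu1 hχ, Complex.conj_natCast, mul_comm]),
    Finset.sum_const, D.blk.card_Y, nsmul_eq_mul, CfsgLib.Char.principalIrr_apply,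
    CfsgLib.Char.principalIrr_apply, map_one, map_zero] at h3
  generalize ∑ χ ∈ offBlock X Y, (k χ : ℂ) * (χ : G → ℂ) g = S at h2 h3 ⊢
  have hv : (v : ℂ) + e = p := by
    have := D.hv
    rw [hw, one_mul] at this
    exact_mod_cast this
  have hp' : (e : ℂ) * t + 1 = p := by exact_mod_cast N.num.het
  have he' : (e : ℂ) = 2 := by exact_mod_cast he
  have ht0 : (t : ℂ) ≠ 0 := Nat.cast_ne_zero.2 (by have := D.t2; omega)
  have hp0 : (p : ℂ) ≠ 0 := Nat.cast_ne_zero.2 N.num.ctx.prime.ne_zero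
  rw [he'] at hp' hv
  push_cast [he] at h2
  have hθg : (θ : G → ℂ) g = 0 := by
    refine mul_left_cancel₀ ht0 (mul_left_cancel₀ hp0 ?_)
    rw [← hp'] at hv h2 ⊢
    linear_combination (1 / 2 : ℂ) * h2 - (1 / 2 : ℂ) * (2 * t + 1) * h3 - (t : ℂ) * h1 -
      (1 / 2 : ℂ) * (t : ℂ) * (θ : G → ℂ) g * hv
  refine ⟨?_, fun θ' hθ' => by rw [D.blk.eq_Y θ' hθ' θ hθ g hgp, hθg], ?_⟩
  · rw [hθg] at h1
    linear_combination h1
  · rw [hθg] at h3
    linear_combination h3

theorem two_of_e_two (he : e = 2) (k : IrrCharacter G → ℕ)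
    (hk : ∀ χ ∈ offBlock X Y, deg χ = p * k χ) :
    ∃ (m : ℕ) (F : Type) (_ : Field F) (_ : Fintype F), Fintype.card F = 2 ^ m ∧ p = 2 ^ m + 1 ∧
      Nonempty (G ≃* Matrix.ProjectiveSpecialLinearGroup (Fin 2) F) := by
  have D := N.degs
  have hp := N.num.ctx.prime
  obtain ⟨hw, hnt, hCu⟩ := N.w_one hu hu2 k hk
  have hu1 := N.u_ne hu hu2
  have ht2 := D.t2
  have hab := D.card_add
  have hrel := N.rel
  rw [hw, one_mul, he] at hrel
  have hXp0 : Xp.card = 0 :=
    (Nat.mul_eq_zero.1 (show Xp.card * t = 0 by omega)).resolve_right (by omega)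
  obtain ⟨M, hM⟩ := Finset.card_eq_one.1 (show Xm.card = 1 by omega)
  have hq : p = 2 * t + 1 := by have := N.num.het; rw [he] at this; omega
  have hv : v = 2 * t - 1 := by have := D.hv; rw [hw, one_mul, he] at this; omega
  have hG : Nat.card G = p * (2 * t * (2 * t - 1)) := by
    rw [N.card_G, he, hv, mul_assoc 2 t]
  -- the elements of even order
  have hsing : ∀ (r : ℕ) (g : G), r.Prime → r ∣ 2 * t → r ∣ orderOf g → IsConj u g := by
    intro r g hr hrt hrg
    by_contra hgu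
    have hg1 : g ≠ 1 := fun h => by
      rw [h, orderOf_one] at hrg
      exact hr.one_lt.ne' (Nat.dvd_one.1 hrg)
    have hgp : ¬ p ∣ orderOf g := fun hd => by
      obtain ⟨c, i, hi, hc⟩ := N.num.ctx.exists_pow_of_dvd hd
      rw [show orderOf g = orderOf (c * g * c⁻¹) from
        (orderOf_injective (MulAut.conj c).toMonoidHom (MulAut.conj c).injective _).symm, hc,
        N.num.ctx.hyp.orderOf_pow hi] at hrg
      rcases (Nat.dvd_prime hp).1 hrg with e1 | e1
      · exact hr.one_lt.ne' e1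
      · have := Nat.le_of_dvd (by omega) (e1 ▸ hrt)
        omega
    set j := (2 * t).factorization r
    have hj : r ^ j ∣ 2 * t := Nat.ordProj_dvd _ r
    have hjG : ¬ r ^ (j + 1) ∣ Nat.card G := by
      intro hd
      have hnd : ¬ r ∣ p * (2 * t - 1) := fun h => by
        rcases (Nat.Prime.dvd_mul hr).1 h with h | h
        · have := (Nat.prime_dvd_prime_iff_eq hr hp).1 h
          have := Nat.le_of_dvd (by omega) hrt
          omega
        · have h' := Nat.dvd_sub hrt h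
          rw [show 2 * t - (2 * t - 1) = 1 by omega] at h'
          exact hr.one_lt.ne' (Nat.dvd_one.1 h')
      rw [hG, show p * (2 * t * (2 * t - 1)) = p * (2 * t - 1) * (2 * t) by ring] at hd
      exact Nat.pow_succ_factorization_not_dvd (show 2 * t ≠ 0 by omega) hr
        ((((hr.coprime_iff_not_dvd.2 hnd).pow_left _)).dvd_of_dvd_mul_left hd)
    have h0 : (M : G → ℂ) g = 0 := vanish hr
      (by rw [hG]; exact (hj.mul_right _).mul_left p) hjG
      (by rw [(D.minus M (hM ▸ Finset.mem_singleton_self M)).2, he]; exact hj) hrg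
    rw [(N.values_two hu hu2 he k hk hM hg1 hgp hgu).1] at h0
    exact one_ne_zero h0
  -- the degree is a power of two
  obtain ⟨m, hm⟩ : ∃ m, 2 * t = 2 ^ m := by
    refine ⟨(2 * t).primeFactorsList.length, Nat.eq_prime_pow_of_unique_prime_dvd (by omega)
      fun {d} hd hdt => ?_⟩
    haveI : Fact d.Prime := ⟨hd⟩
    obtain ⟨g, hg⟩ := exists_prime_orderOf_dvd_card' (G := G) d
      (hdt.trans (by rw [hG]; exact dvd_mul_of_dvd_right (dvd_mul_right _ _) p))
    obtain ⟨c, hc⟩ := isConj_iff.1 (hsing d g hd hdt (by rw [hg]))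
    rw [← hg, ← hc]
    rw [show orderOf (c * u * c⁻¹) = orderOf u from
      orderOf_injective (MulAut.conj c).toMonoidHom (MulAut.conj c).injective _, hu2]
  rw [hm] at hG hq
  have hC : Nat.card (Subgroup.centralizer ({u} : Set G)) = 2 ^ m := by rw [hCu, he, hm]
  suffices hcent : ∀ g : G, g ≠ 1 → ¬ p ∣ orderOf g → ¬ IsConj u g →
      2 ^ m - 1 ≤ Nat.card (Subgroup.centralizer ({g} : Set G)) by
    obtain ⟨F, iF, iFF, hF, hiso⟩ := sharp_group hu2 hC (by omega) hq hG
      (fun g hg => hsing 2 g Nat.prime_two (dvd_mul_right 2 t) hg) hcent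
    exact ⟨m, F, iF, iFF, hF, hq, hiso⟩
  intro g hg1 hgp hgu
  -- counting the pairs with product `g`
  obtain ⟨-, hθ0, hS⟩ := N.values_two hu hu2 he k hk hM hg1 hgp hgu
  have h1 := card_pairs_formula u g
  rw [sum_split D, CfsgLib.Char.principalIrr_apply, CfsgLib.Char.principalIrr_apply,
    CfsgLib.Char.principalIrr_apply, Finset.card_eq_zero.1 hXp0, Finset.sum_empty, hM,
    Finset.sum_singleton, N.vanish_minus (χ := M) (by rw [hM]; exact Finset.mem_singleton_self M) hu hu1,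
    Finset.sum_eq_zero (s := Y) (fun θ hθ => by rw [hθ0 θ hθ, map_zero, mul_zero]),
    Finset.sum_congr rfl (g := fun χ => conj ((k χ : ℂ) * (χ : G → ℂ) g) / p)
      (s₁ := offBlock X Y) (fun χ hχ => by
        obtain ⟨k', hk', hk0⟩ := off_dvd D hχ
        have hkk : k' = k χ := Nat.eq_of_mul_eq_mul_left hp.pos (hk'.symm.trans (hk χ hχ))
        have hk1 : (k χ : ℂ) ≠ 0 := Nat.cast_ne_zero.2 (by omega)
        have hp0 : (p : ℂ) ≠ 0 := Nat.cast_ne_zero.2 hp.ne_zero
        rw [N.val_off_q k hk hu hu1 hχ, ← deg_cast χ, hk χ hχ, map_mul, Complex.conj_natCast]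
        push_cast
        field_simp),
    ← Finset.sum_div, ← map_sum, hS, hC, hG, map_neg, map_one] at h1
  have hp0 : (p : ℂ) ≠ 0 := Nat.cast_ne_zero.2 hp.ne_zero
  have hq0 : ((2 : ℂ) ^ m) ≠ 0 := pow_ne_zero _ two_ne_zero
  have h2 : (Nat.card (Pairs u g) : ℂ) = ((2 ^ m - 1 : ℕ) : ℂ) := by
    have hp' : (p : ℂ) = 2 ^ m + 1 := by exact_mod_cast hq
    push_cast [Nat.cast_sub (Nat.one_le_two_pow (n := m))] at h1 ⊢
    field_simp at h1
    refine mul_left_cancel₀ hq0 (mul_left_cancel₀ hp0 ?_)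
    simp only [zero_pow two_ne_zero, zero_mul, zero_div, add_zero, mul_one] at h1
    linear_combination (p : ℂ) * h1 + (p : ℂ) * ((2 : ℂ) ^ m - 1) * hp'
  rw [← Nat.cast_injective h2]
  exact card_pairs_le (N.u_sq hu hu2)

end Neg

end CfsgLib.BrauerRey
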