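import Cfsg.Agent.Lib.BrauerRey.Degrees

/-!
# The values on the complement in the case of a negative exceptional sign
-/

set_option autoImplicit false

namespace CfsgLib.BrauerRey

open Cfsg CfsgLib.DefectOne
open scoped ComplexConjugate Classical

universe u

variable {G : Type u} [Group G] [Finite G] {p : ℕ} [Fact p.Prime] {z y : G} {e t n : ℕ}
  {X Y : Finset (IrrCharacter G)} {σ : IrrCharacter G → ℤ} {δ : ℤ} {f₀ : ℕ}
  {w v : ℕ} {Xp Xm : Finset (IrrCharacter G)}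

/-- The case of a negative exceptional sign. -/
structure Neg (p : ℕ) [Fact p.Prime] (z y : G) (e t n : ℕ) (X Y : Finset (IrrCharacter G))
    (σ : IrrCharacter G → ℤ) (δ : ℤ) (f₀ : ℕ) (w v : ℕ) (Xp Xm : Finset (IrrCharacter G)) :
    Prop where
  degs : Degs p z y e t n X Y σ δ f₀ w v Xp Xm
  hδ : δ = -1
  hf : f₀ = v
  rel : w * (1 + Xp.card * t) + 1 = e

/-- The characters off the principal block. -/
noncomputable def offBlock (X Y : Finset (IrrCharacter G)) : Finset (IrrCharacter G) :=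
  Finset.univ.filter fun χ => χ ∉ X ∪ Y

theorem sum_split {M : Type*} [AddCommMonoid M] (D : Degs p z y e t n X Y σ δ f₀ w v Xp Xm)
    (F : IrrCharacter G → M) :
    ∑ χ : IrrCharacter G, F χ = F CfsgLib.Char.principalIrr + (∑ χ ∈ Xp, F χ) + (∑ χ ∈ Xm, F χ) +
      (∑ χ ∈ Y, F χ) + ∑ χ ∈ offBlock X Y, F χ := by
  rw [← Finset.sum_filter_add_sum_filter_not Finset.univ (fun χ => χ ∈ X ∪ Y), Finset.filter_mem_eq_inter,
    Finset.univ_inter, Finset.sum_union D.blk.disj, D.X_eq, Finset.sum_insert D.not_mem,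
    Finset.sum_union D.disjX]
  simp only [offBlock, ← D.X_eq, add_assoc]

theorem off_dvd (D : Degs p z y e t n X Y σ δ f₀ w v Xp Xm) {χ : IrrCharacter G}
    (hχ : χ ∈ offBlock X Y) : ∃ k, deg χ = p * k ∧ 0 < k := by
  have h1 : p ∣ deg χ := by
    by_contra h
    exact (Finset.mem_filter.1 hχ).2 (D.blk.mem χ h)
  obtain ⟨k, hk⟩ := h1
  refine ⟨k, hk, Nat.pos_of_ne_zero fun h0 => ?_⟩
  rw [h0, mul_zero] at hk
  exact (deg_pos χ).ne' hk

theorem val_off (D : Degs p z y e t n X Y σ δ f₀ w v Xp Xm) {χ : IrrCharacter G}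
    (hχ : χ ∈ offBlock X Y) {i : ℕ} (hi : ¬ p ∣ i) : (χ : G → ℂ) (z ^ i) = 0 := by
  obtain ⟨k, hk, -⟩ := off_dvd D hχ
  exact vanish D.num.ctx.prime (m := 1) (by rw [pow_one, D.num.card_eq]; exact dvd_mul_right p _)
    D.num.ctx.not_sq (by rw [pow_one, hk]; exact dvd_mul_right p k)
    (by rw [D.num.ctx.hyp.orderOf_pow hi])

/-- The sum defining a class coefficient at `z`. -/
theorem sum_conj_z (D : Degs p z y e t n X Y σ δ f₀ w v Xp Xm) (F : IrrCharacter G → ℂ) (c : ℂ)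
    (hF : ∀ θ ∈ Y, F θ = c) :
    ∑ χ : IrrCharacter G, F χ * conj ((χ : G → ℂ) z) =
      F CfsgLib.Char.principalIrr + (∑ χ ∈ Xp, F χ) - (∑ χ ∈ Xm, F χ) - (δ : ℂ) * c := by
  have hp := D.num.ctx.prime
  have hi : ¬ p ∣ p - 1 := fun h => by
    have := Nat.le_of_dvd (by have := hp.two_le; omega) h
    have := hp.two_le
    omega
  have hinv : z ^ (p - 1) = z⁻¹ := by
    refine eq_inv_of_mul_eq_one_left ?_
    rw [← pow_succ, Nat.sub_add_cancel hp.one_le, D.num.ctx.hyp.pow_p]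
  have hc : ∀ χ : IrrCharacter G, conj ((χ : G → ℂ) z) = (χ : G → ℂ) (z ^ (p - 1)) := fun χ => by
    rw [hinv, CfsgLib.Char.IsIrrCharacter.apply_inv χ.2]
  simp only [hc, mul_comm (F _)]
  rw [D.blk.column D.num hi, D.sum_X, Finset.sum_congr (s₁ := Y) rfl
    (fun θ hθ => by rw [hF θ hθ]), ← Finset.sum_mul, D.blk.sum_Y _ hi]
  ring

namespace Neg

variable (N : Neg p z y e t n X Y σ δ f₀ w v Xp Xm)

include N

theorem num : Num p z y e t n := N.degs.num

theorem exists_theta : ∃ θ, θ ∈ Y :=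
  Finset.card_pos.1 (show 0 < Y.card by rw [N.degs.blk.card_Y]; exact N.num.ht)

/-- The number of non-principal blocks, weighted. -/
theorem sum_off_sq (k : IrrCharacter G → ℕ) (hk : ∀ χ ∈ offBlock X Y, deg χ = p * k χ) :
    ∑ χ ∈ offBlock X Y, k χ ^ 2 = n := by
  have D := N.degs
  have h1 := sum_deg_sq (G := G)
  rw [sum_split D, deg_principal,
    Finset.sum_congr rfl (s₁ := Xp) (g := fun _ => (1 + n * p) ^ 2) (fun χ hχ => by rw [(D.plus χ hχ).2]),
    Finset.sum_congr rfl (g := fun _ => (e * t) ^ 2) (s₁ := Xm) (fun χ hχ => by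
      rw [(D.minus χ hχ).2]),
    Finset.sum_congr rfl (g := fun _ => v ^ 2) (s₁ := Y) (fun χ hχ => by
      rw [D.blk.deg_Y χ hχ, N.hf]),
    Finset.sum_congr rfl (g := fun χ => p ^ 2 * k χ ^ 2) (s₁ := offBlock X Y) (fun χ hχ => by
      rw [hk χ hχ, mul_pow]),
    Finset.sum_const, Finset.sum_const, Finset.sum_const, D.blk.card_Y, ← Finset.mul_sum,
    smul_eq_mul, smul_eq_mul, smul_eq_mul, N.num.card_eq, D.N_eq] at h1
  generalize ∑ χ ∈ offBlock X Y, k χ ^ 2 = S at h1 ⊢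
  have h1' : (1 : ℤ) ^ 2 + (Xp.card : ℤ) * ((t : ℤ) * v) ^ 2 + (Xm.card : ℤ) * ((e : ℤ) * t) ^ 2
      + (t : ℤ) * (v : ℤ) ^ 2 + (p : ℤ) ^ 2 * S = (p : ℤ) * ((e : ℤ) * ((t : ℤ) * v)) := by
    exact_mod_cast h1
  have hab : (Xp.card : ℤ) + Xm.card + 1 = e := by exact_mod_cast D.card_add
  have hr : (w : ℤ) * (1 + Xp.card * t) + 1 = e := by exact_mod_cast N.rel
  have hp' : (e : ℤ) * t + 1 = p := by exact_mod_cast N.num.het
  have hnw : (n : ℤ) + 1 = w * t := by exact_mod_cast D.hnw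
  have hv : (v : ℤ) + e = w * p := by exact_mod_cast D.hv
  have h2 : ((p : ℤ) ^ 2) * S = (p : ℤ) ^ 2 * n := by
    have en : (n : ℤ) = w * t - 1 := by linarith
    have ev : (v : ℤ) = w * p - e := by linarith
    have em : (Xm.card : ℤ) = e - 1 - Xp.card := by linarith
    rw [em, ev] at h1'
    rw [en]
    rw [← hp'] at h1' ⊢
    rw [← hr] at h1' ⊢
    linear_combination h1'
  have h3 := mul_left_cancel₀ (pow_ne_zero 2 (Int.natCast_ne_zero.2 N.num.ctx.prime.ne_zero)) h2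
  exact_mod_cast h3

/-- The relation on the complement. -/
theorem rel_q {θ : IrrCharacter G} (hθ : θ ∈ Y) {q : G} (hq : q ∈ Subgroup.zpowers y)
    (hq1 : q ≠ 1) : 1 + (∑ χ ∈ Xp, (χ : G → ℂ) q) + (θ : G → ℂ) q = 0 := by
  have D := N.degs
  have h1 := D.relation hθ (N.num.not_dvd_orderOf hq)
  rw [N.hδ, Finset.sum_eq_zero (s := Xm) (fun χ hχ => minus_vanish N.num D.blk
    (by rw [D.X_eq]; exact Finset.mem_insert_of_mem (Finset.mem_union_right _ hχ))
    (D.minus χ hχ).1 (D.minus χ hχ).2 hq hq1)] at h1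
  push_cast at h1
  linear_combination -h1

theorem vanish_minus {χ : IrrCharacter G} (hχ : χ ∈ Xm) {q : G} (hq : q ∈ Subgroup.zpowers y)
    (hq1 : q ≠ 1) : (χ : G → ℂ) q = 0 :=
  minus_vanish N.num N.degs.blk
    (by rw [N.degs.X_eq]; exact Finset.mem_insert_of_mem (Finset.mem_union_right _ hχ))
    (N.degs.minus χ hχ).1 (N.degs.minus χ hχ).2 hq hq1

theorem sum_off_mul (k : IrrCharacter G → ℕ) (hk : ∀ χ ∈ offBlock X Y, deg χ = p * k χ) {q : G}
    (hq : q ∈ Subgroup.zpowers y) (hq1 : q ≠ 1) :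
    ∑ χ ∈ offBlock X Y, (k χ : ℂ) * (χ : G → ℂ) q = n := by
  have D := N.degs
  obtain ⟨θ, hθ⟩ := N.exists_theta
  have h1 := CfsgLib.Char.sum_apply_one_mul (G := G) q
  rw [if_neg hq1] at h1
  simp only [← deg_cast] at h1
  rw [sum_split D, deg_principal, CfsgLib.Char.principalIrr_apply,
    Finset.sum_congr rfl (s₁ := Xp) (g := fun χ => ((1 + n * p : ℕ) : ℂ) * (χ : G → ℂ) q) (fun χ hχ => by
      rw [(D.plus χ hχ).2]),
    Finset.sum_eq_zero (s := Xm) (f := fun χ => (deg χ : ℂ) * (χ : G → ℂ) q)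
      (fun χ hχ => by rw [N.vanish_minus hχ hq hq1, mul_zero]),
    Finset.sum_congr rfl (g := fun _ => (v : ℂ) * (θ : G → ℂ) q) (s₁ := Y) (fun χ hχ => by
      rw [D.blk.deg_Y χ hχ, N.hf, D.blk.eq_Y χ hχ θ hθ q (N.num.not_dvd_orderOf hq)]),
    Finset.sum_congr rfl (g := fun χ => (p : ℂ) * ((k χ : ℂ) * (χ : G → ℂ) q))
      (s₁ := offBlock X Y) (fun χ hχ => by rw [hk χ hχ]; push_cast; ring),
    ← Finset.mul_sum, Finset.sum_const, D.blk.card_Y, ← Finset.mul_sum, nsmul_eq_mul] at h1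
  have hN : ((1 + n * p : ℕ) : ℂ) = (t : ℂ) * v := by rw [D.N_eq]; push_cast; ring
  have h2 := N.rel_q hθ hq hq1
  have h3 : (p : ℂ) * (∑ χ ∈ offBlock X Y, (k χ : ℂ) * (χ : G → ℂ) q) = (p : ℂ) * n := by
    have h4 : ((1 + n * p : ℕ) : ℂ) = 1 + (n : ℂ) * p := by push_cast; ring
    linear_combination h1 - ((1 + n * p : ℕ) : ℂ) * h2 + (θ : G → ℂ) q * hN + h4
  exact mul_left_cancel₀ (Nat.cast_ne_zero.2 N.num.ctx.prime.ne_zero) h3

/-- Off the block the complement acts trivially on the fixed points. -/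
theorem val_off_q (k : IrrCharacter G → ℕ) (hk : ∀ χ ∈ offBlock X Y, deg χ = p * k χ) {q : G}
    (hq : q ∈ Subgroup.zpowers y) (hq1 : q ≠ 1) {χ : IrrCharacter G} (hχ : χ ∈ offBlock X Y) :
    (χ : G → ℂ) q = k χ := by
  have hle : ∀ ψ ∈ offBlock X Y, ‖(ψ : G → ℂ) q‖ ≤ k ψ := by
    intro ψ hψ
    obtain ⟨L, hL, hLq, hL1⟩ := N.num.exists_fix ψ
    have h1 : L 1 = k ψ := by
      rw [Finset.sum_eq_zero (fun r _ => val_off N.degs hψ (fun hdv => r.ne_zero
        ((ZMod.val_eq_zero _).1 (Nat.eq_zero_of_dvd_of_lt hdv (ZMod.val_lt _))))),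
        add_zero, ← deg_cast, hk ψ hψ, Nat.cast_mul] at hL1
      exact mul_left_cancel₀ (Nat.cast_ne_zero.2 N.num.ctx.prime.ne_zero) hL1
    have h2 := CfsgLib.Char.IsCharacter.norm_apply_le hL ⟨q, hq⟩
    rw [show CfsgLib.Char.degree L = k ψ by simp [CfsgLib.Char.degree, h1],
      hLq _ (fun e1 => hq1 (congrArg Subtype.val e1))] at h2
    exact h2
  have hre : ∀ ψ ∈ offBlock X Y, ((ψ : G → ℂ) q).re ≤ k ψ := fun ψ hψ =>
    (Complex.re_le_norm _).trans (hle ψ hψ)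
  have hsum : ∑ ψ ∈ offBlock X Y, (k ψ : ℝ) * ((k ψ : ℝ) - ((ψ : G → ℂ) q).re) = 0 := by
    have h1 := congrArg Complex.re (N.sum_off_mul k hk hq hq1)
    rw [Complex.re_sum] at h1
    simp only [Complex.natCast_re, Complex.mul_re, Complex.natCast_im, zero_mul, sub_zero] at h1
    simp only [mul_sub, Finset.sum_sub_distrib, h1]
    rw [sub_eq_zero]
    have h2 : ((∑ ψ ∈ offBlock X Y, k ψ ^ 2 : ℕ) : ℝ) = n := by rw [N.sum_off_sq k hk]
    push_cast at h2
    rw [← h2]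
    exact Finset.sum_congr rfl fun ψ _ => (sq _).symm
  have h3 := (Finset.sum_eq_zero_iff_of_nonneg fun ψ hψ =>
    mul_nonneg (Nat.cast_nonneg _) (sub_nonneg.2 (hre ψ hψ))).1 hsum χ hχ
  obtain ⟨k', hk', hk0⟩ := off_dvd N.degs hχ
  have hkk : k' = k χ :=
    Nat.eq_of_mul_eq_mul_left N.num.ctx.prime.pos (hk'.symm.trans (hk χ hχ))
  have h4 : ((χ : G → ℂ) q).re = k χ := by
    rcases mul_eq_zero.1 h3 with h5 | h5
    · rw [Nat.cast_eq_zero] at h5; omega
    · linarith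
  apply Complex.ext
  · rw [h4, Complex.natCast_re]
  · have h5 := hle χ hχ
    have h6 : Complex.normSq ((χ : G → ℂ) q) ≤ (k χ : ℝ) ^ 2 := by
      rw [Complex.normSq_eq_norm_sq]
      exact pow_le_pow_left₀ (norm_nonneg _) h5 2
    rw [Complex.normSq_apply, h4] at h6
    rw [Complex.natCast_im]
    nlinarith

/-- The order of a centraliser of an element of the complement. -/
theorem card_cent (k : IrrCharacter G → ℕ) (hk : ∀ χ ∈ offBlock X Y, deg χ = p * k χ)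
    {θ : IrrCharacter G} (hθ : θ ∈ Y) {q : G} (hq : q ∈ Subgroup.zpowers y) (hq1 : q ≠ 1) :
    (Nat.card (Subgroup.centralizer ({q} : Set G)) : ℂ) =
      1 + (∑ χ ∈ Xp, (χ : G → ℂ) q * conj ((χ : G → ℂ) q)) +
        (t : ℂ) * ((θ : G → ℂ) q * conj ((θ : G → ℂ) q)) + n := by
  have D := N.degs
  have h1 := CfsgLib.Char.sum_mul_conj q q
  rw [if_pos (IsConj.refl q), sum_split D, CfsgLib.Char.principalIrr_apply,
    Finset.sum_eq_zero (s := Xm) (f := fun χ => (χ : G → ℂ) q * conj ((χ : G → ℂ) q))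
      (fun χ hχ => by rw [N.vanish_minus hχ hq hq1, zero_mul]),
    Finset.sum_congr rfl (g := fun _ => (θ : G → ℂ) q * conj ((θ : G → ℂ) q)) (s₁ := Y)
      (fun χ hχ => by rw [D.blk.eq_Y χ hχ θ hθ q (N.num.not_dvd_orderOf hq)]),
    Finset.sum_congr rfl (g := fun χ => ((k χ ^ 2 : ℕ) : ℂ)) (s₁ := offBlock X Y)
      (fun χ hχ => by rw [N.val_off_q k hk hq hq1 hχ, Complex.conj_natCast, sq, Nat.cast_mul]),
    Finset.sum_const, D.blk.card_Y, ← Nat.cast_sum, N.sum_off_sq k hk, nsmul_eq_mul,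
    map_one, mul_one] at h1
  rw [← h1]
  ring

end Neg

end CfsgLib.BrauerRey
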